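import Cfsg.Agent.H894.J4TwoGen

/-!
# A character of degree 1981808640 of a group with the local data of the fourth Janko group (helper894)
-/

set_option autoImplicit false

open Cfsg Subgroup
open scoped ComplexConjugate

namespace Cfsg.Agent.H894.J4Two

open Cfsg.Agent.Characters.Core
open Cfsg.Agent.H653.Sieve

universe u

variable {G : Type u} [Group G] [Finite G]

omit [Finite G] in
theorem orderOf_of_card {p : ℕ} (hp : p.Prime) {H : Subgroup G} (hH : Nat.card H = p) {z : G} (hz : z ∈ H)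
    (h1 : z ≠ 1) : orderOf z = p := by
  have h2 : orderOf z ∣ p := by
    have h3 := orderOf_dvd_natCard (⟨z, hz⟩ : H)
    rwa [Subgroup.orderOf_mk, hH] at h3
  rcases (Nat.dvd_prime hp).1 h2 with h | h
  · exact absurd (orderOf_eq_one_iff.1 h) h1
  · exact h

omit [Finite G] in
theorem orderOf_eq_of_isConj {x y : G} (h : IsConj x y) : orderOf x = orderOf y := by
  obtain ⟨g, rfl⟩ := isConj_iff.1 h
  exact (orderOf_injective (MulAut.conj g).toMonoidHom (MulAut.conj g).injective x).symm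

omit [Finite G] in
theorem nc_of_card {p q : ℕ} (hp : p.Prime) (hq : q.Prime) (hpq : p ≠ q) {H K : Subgroup G} (hH : Nat.card H = p)
    (hK : Nat.card K = q) : ∀ x ∈ H, ∀ y ∈ K, x ≠ 1 → y ≠ 1 → ¬ IsConj x y := by
  intro x hx y hy hx1 hy1 h
  apply hpq
  rw [← orderOf_of_card hp hH hx hx1, ← orderOf_of_card hq hK hy hy1]
  exact orderOf_eq_of_isConj h

theorem isCol_unique {H : Subgroup G} {e : ℕ} (he : e ≠ 0) {W : IrrCharacter G → ℤ} (hW : IsCol H e W)
    {χ ψ : IrrCharacter G} (h : ∀ z ∈ H, (χ : G → ℂ) z = (ψ : G → ℂ) z) : W χ = W ψ := by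
  classical
  have := Fintype.ofFinite H
  have h1 := hW χ
  have h2 := hW ψ
  have h3 : csum H (χ : G → ℂ) = csum H (ψ : G → ℂ) := by
    rw [csum_eq, csum_eq, h 1 (one_mem _)]
    congr 1
    exact Finset.sum_congr rfl fun z _ => h z z.2
  rw [← h1, ← h2] at h3
  have h4 := mul_left_cancel₀ (by exact_mod_cast he : (e : ℂ) ≠ 0) h3
  exact_mod_cast h4

/-- the local data of the fourth Janko group -/
structure Data (G : Type u) [Group G] where
  card : Nat.card G = 86775571046077562880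
  c : G
  x : G
  U : Subgroup G
  cardU : Nat.card U = 1331
  cU : c ∈ U
  xU : x ∈ U
  oc : orderOf c = 11
  ox : orderOf x = 11
  cc : ∀ z ∈ zpowers c, z ≠ 1 → IsConj z c
  xx : ∀ z ∈ U, z ∉ zpowers c → IsConj z x
  nc : ¬ IsConj x c
  y : ℕ
  cy : Nat.card (centralizer ({c} : Set G)) = 1331 * y
  hy : y ∣ 2 ^ 21 * 3 ^ 3
  cx : Nat.card (centralizer ({x} : Set G)) = 242
  h23 : ∀ P : Subgroup G, Nat.card P = 23 → Nat.card (centralizer (P : Set G)) = 23 ∧
    Nat.card (normalizer (P : Set G)) = 23 * 22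
  h29 : ∀ P : Subgroup G, Nat.card P = 29 → Nat.card (centralizer (P : Set G)) = 29 ∧
    Nat.card (normalizer (P : Set G)) = 29 * 28
  h31 : ∀ P : Subgroup G, Nat.card P = 31 → Nat.card (centralizer (P : Set G)) = 31 ∧
    Nat.card (normalizer (P : Set G)) = 31 * 10
  h37 : ∀ P : Subgroup G, Nat.card P = 37 → Nat.card (centralizer (P : Set G)) = 37 ∧
    Nat.card (normalizer (P : Set G)) = 37 * 12
  h43 : ∀ P : Subgroup G, Nat.card P = 43 → Nat.card (centralizer (P : Set G)) = 43 ∧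
    Nat.card (normalizer (P : Set G)) = 43 * 14

theorem y_eq {y : ℕ} (hy : y ∣ 2 ^ 21 * 3 ^ 3) (h : (1331 : ℤ) ∣ (y : ℤ) - 24) : (y : ℤ) = 24 := by
  obtain ⟨a, b, ha, hb, rfl⟩ := (Nat.dvd_mul).1 hy
  obtain ⟨i, hi, rfl⟩ := (Nat.dvd_prime_pow Nat.prime_two).1 ha
  obtain ⟨j, hj, rfl⟩ := (Nat.dvd_prime_pow Nat.prime_three).1 hb
  have h1 : (2 ^ i * 3 ^ j) % 1331 = 24 := by
    have h2 : ((2 ^ i * 3 ^ j : ℕ) : ℤ) % 1331 = 24 := by omega
    exact_mod_cast h2
  have key : ∀ i < 22, ∀ j < 4, (2 ^ i * 3 ^ j) % 1331 = 24 → 2 ^ i * 3 ^ j = 24 := by decide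
  have h3 := key i (by omega) j (by omega) h1
  exact_mod_cast h3

/-- the data of one prime -/
theorem exists_col_prime [Fintype (IrrCharacter G)] {p : ℕ} (hp : p.Prime) (hp2 : p ≠ 2) (hpG : p ∣ Nat.card G)
    (hpp : ¬ p * p ∣ Nat.card G) {e t : ℕ} (ht : e * t = p - 1)
    (h : ∀ P : Subgroup G, Nat.card P = p → Nat.card (centralizer (P : Set G)) = p ∧
      Nat.card (normalizer (P : Set G)) = p * e) :
    ∃ (P : Subgroup G) (W : IrrCharacter G → ℤ) (X : Finset (IrrCharacter G)) (d : ℤ), Nat.card P = p ∧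
      IsCol P e W ∧ X.card = t ∧
      (∀ χ ∈ X, W χ = d) ∧ (∀ χ ∉ X, (t : ℤ) ∣ W χ) ∧
      (∀ χ ∈ X, ∀ ψ ∈ X, ∀ g : G, ¬ p ∣ orderOf g → (χ : G → ℂ) g = (ψ : G → ℂ) g) ∧
      ∑ χ : IrrCharacter G, W χ * W χ = (t * p : ℕ) ∧ ∀ χ : IrrCharacter G, (p : ℤ) ∣ (deg χ : ℤ) + e * W χ := by
  have : Fact p.Prime := ⟨hp⟩
  obtain ⟨g, hg⟩ := exists_prime_orderOf_dvd_card' p hpG
  have hP : Nat.card (zpowers g) = p := by rw [Nat.card_zpowers, hg]
  obtain ⟨W, X, d, h1, h2, h3, h4, h5, h6⟩ := exists_col_self hp2 hP hpp (h _ hP).1 (h _ hP).2 ht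
  refine ⟨zpowers g, W, X, d, hP, h1, h2, h3, h4, h5, h6, fun χ => ?_⟩
  have := h1.dvd χ
  rwa [hP] at this

/-- the column of `U` -/
theorem csum_U [Fintype (IrrCharacter G)] (Δ : Data G) {A X : IrrCharacter G → ℤ}
    (hA : ∀ χ : IrrCharacter G, (χ : G → ℂ) Δ.c = A χ) (hX : ∀ χ : IrrCharacter G, (χ : G → ℂ) Δ.x = X χ) :
    IsCol Δ.U 1 (fun χ => 10 * A χ + 1320 * X χ) := by
  classical
  intro χ
  have := Fintype.ofFinite Δ.U
  rw [csum_eq_erase]
  have hle : zpowers Δ.c ≤ Δ.U := by rw [zpowers_le]; exact Δ.cU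
  have h1 : ∀ z ∈ (Finset.univ : Finset Δ.U).erase 1, (χ : G → ℂ) z =
      if (z : G) ∈ zpowers Δ.c then (A χ : ℂ) else (X χ : ℂ) := by
    intro z hz
    have hz1 : (z : G) ≠ 1 := fun e => (Finset.mem_erase.1 hz).1 (Subtype.ext e)
    by_cases h : (z : G) ∈ zpowers Δ.c
    · rw [if_pos h, ← hA]
      exact apply_eq_of_isConj χ.2 (Δ.cc _ h hz1)
    · rw [if_neg h, ← hX]
      exact apply_eq_of_isConj χ.2 (Δ.xx _ z.2 h)
  have hcard : (Finset.univ : Finset Δ.U).card = 1331 := by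
    rw [Finset.card_univ, ← Nat.card_eq_fintype_card, Δ.cardU]
  have hcardc : ((Finset.univ : Finset Δ.U).filter fun z : Δ.U => (z : G) ∈ zpowers Δ.c).card = 11 := by
    have h2 : Nat.card ((zpowers Δ.c).subgroupOf Δ.U) = 11 := by
      rw [Nat.card_congr (Subgroup.subgroupOfEquivOfLe hle).toEquiv, Nat.card_zpowers, Δ.oc]
    rw [← h2, Nat.card_eq_fintype_card, ← Fintype.card_subtype]
    exact Fintype.card_congr (Equiv.refl _)
  rw [Finset.sum_congr rfl h1, Finset.sum_ite, Finset.sum_const, Finset.sum_const]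
  have h3 : (((Finset.univ : Finset Δ.U).erase 1).filter fun z : Δ.U => (z : G) ∈ zpowers Δ.c).card = 10 := by
    rw [Finset.filter_erase, Finset.card_erase_of_mem, hcardc]
    rw [Finset.mem_filter]
    exact ⟨Finset.mem_univ _, by rw [Subgroup.coe_one]; exact one_mem _⟩
  have h4 : (((Finset.univ : Finset Δ.U).erase 1).filter fun z : Δ.U => ¬ (z : G) ∈ zpowers Δ.c).card = 1320 := by
    have h5 := Finset.card_filter_add_card_filter_not (s := (Finset.univ : Finset Δ.U).erase 1)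
      (fun z : Δ.U => (z : G) ∈ zpowers Δ.c)
    rw [h3, Finset.card_erase_of_mem (Finset.mem_univ _), hcard] at h5
    omega
  rw [h3, h4]
  push_cast
  simp only [nsmul_eq_mul]
  push_cast
  ring

theorem Data.xpow (Δ : Data G) : ∀ z ∈ zpowers Δ.x, z ≠ 1 → z ∈ Δ.U ∧ z ∉ zpowers Δ.c := by
  intro z hz h1
  have hp : Nat.Prime 11 := by norm_num
  have hle : zpowers Δ.x ≤ Δ.U := by rw [zpowers_le]; exact Δ.xU
  refine ⟨hle hz, fun h => Δ.nc ?_⟩
  have h2 : zpowers z ≤ zpowers Δ.x := by rw [zpowers_le]; exact hz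
  have h3 : orderOf z = 11 := orderOf_of_card hp (by rw [Nat.card_zpowers, Δ.ox]) hz h1
  have h4 : zpowers z = zpowers Δ.x := Subgroup.eq_of_le_of_card_ge h2 (by rw [Nat.card_zpowers, Nat.card_zpowers, h3, Δ.ox])
  have h5 : zpowers z ≤ zpowers Δ.c := by rw [zpowers_le]; exact h
  have h6 : Δ.x ∈ zpowers Δ.c := h5 (h4 ▸ mem_zpowers _)
  refine Δ.cc _ h6 ?_
  intro h7
  have h8 := Δ.ox
  rw [h7, orderOf_one] at h8
  exact absurd h8 (by norm_num)

theorem Data.xconj (Δ : Data G) : ∀ z ∈ zpowers Δ.x, z ≠ 1 → IsConj z Δ.x := by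
  intro z hz h1
  obtain ⟨h2, h3⟩ := Δ.xpow z hz h1
  exact Δ.xx z h2 h3

/-- **the character of degree 1981808640** -/
theorem exists_charDegree (Δ : Data G) : ∃ χ : IrrCharacter G, charDegree (χ : G → ℂ) = 1981808640 := by
  classical
  have := finite_irr (G := G)
  have := Fintype.ofFinite (IrrCharacter G)
  have hG := Δ.card
  have hp11 : Nat.Prime 11 := by norm_num
  obtain ⟨A, cA, vA, qA⟩ := exists_col_rat hp11 Δ.oc Δ.cc
  obtain ⟨X, cX, vX, qX⟩ := exists_col_rat hp11 Δ.ox Δ.xconj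
  obtain ⟨Pa, a, -, -, pa, ca, -, -, -, -, qa, da⟩ := exists_col_prime (G := G) (p := 23) (e := 22) (t := 1) (by norm_num)
    (by norm_num) (by rw [hG]; norm_num) (by rw [hG]; norm_num) (by norm_num) Δ.h23
  obtain ⟨Pb, b, -, -, pb, cb, -, -, -, -, qb, db⟩ := exists_col_prime (G := G) (p := 29) (e := 28) (t := 1) (by norm_num)
    (by norm_num) (by rw [hG]; norm_num) (by rw [hG]; norm_num) (by norm_num) Δ.h29
  obtain ⟨Ps, s, -, -, ps, cs, -, -, -, -, qs, ds⟩ := exists_col_prime (G := G) (p := 31) (e := 10) (t := 3) (by norm_num)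
    (by norm_num) (by rw [hG]; norm_num) (by rw [hG]; norm_num) (by norm_num) Δ.h31
  obtain ⟨Pw, w, -, -, pw, cw, -, -, -, -, qw, dw⟩ := exists_col_prime (G := G) (p := 43) (e := 14) (t := 3) (by norm_num)
    (by norm_num) (by rw [hG]; norm_num) (by rw [hG]; norm_num) (by norm_num) Δ.h43
  obtain ⟨Pu, u, E, d, pu, cu, hE, hEd, hEn, hEr, qu, du⟩ := exists_col_prime (G := G) (p := 37) (e := 12) (t := 3)
    (by norm_num) (by norm_num) (by rw [hG]; norm_num) (by rw [hG]; norm_num) (by norm_num) Δ.h37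
  have pA : Nat.card (zpowers Δ.c) = 11 := by rw [Nat.card_zpowers, Δ.oc]
  have pX : Nat.card (zpowers Δ.x) = 11 := by rw [Nat.card_zpowers, Δ.ox]
  have q23 : Nat.Prime 23 := by norm_num
  have q29 : Nat.Prime 29 := by norm_num
  have q31 : Nat.Prime 31 := by norm_num
  have q37 : Nat.Prime 37 := by norm_num
  have q43 : Nat.Prime 43 := by norm_num
  have hAX : ∀ z ∈ zpowers Δ.c, ∀ y ∈ zpowers Δ.x, z ≠ 1 → y ≠ 1 → ¬ IsConj z y := by
    intro z hz y hy h1 h2 h
    exact Δ.nc (((Δ.xconj y hy h2).symm.trans h.symm).trans (Δ.cc z hz h1))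
  have hU := csum_U Δ vA vX
  let D : IrrCharacter G → ℤ := fun χ => (deg χ : ℤ)
  have qD : ∑ χ, D χ * D χ = 86775571046077562880 := by
    have h1 := SmallSimple.DegreeData.sum_sq (G := G)
    rw [hG] at h1
    have h2 : ((∑ χ : IrrCharacter G, (charDegree (χ : G → ℂ)) ^ 2 : ℕ) : ℤ) = 86775571046077562880 := by
      rw [h1]; norm_num
    rw [← h2]
    push_cast
    refine Finset.sum_congr rfl fun χ _ => ?_
    simp only [D, deg]
    ring
  have oD : ∀ {H : Subgroup G} {e : ℕ} {W : IrrCharacter G → ℤ}, IsCol H e W → e ≠ 0 → ∑ χ, D χ * W χ = 0 := by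
    intro H e W hW he
    rw [← hW.deg he]
    exact Finset.sum_congr rfl fun χ _ => mul_comm _ _
  have oo : ∀ {H K : Subgroup G} {e f : ℕ} {W W' : IrrCharacter G → ℤ}, IsCol H e W → IsCol K f W' → e ≠ 0 →
      f ≠ 0 → (∀ x ∈ H, ∀ y ∈ K, x ≠ 1 → y ≠ 1 → ¬ IsConj x y) → ∑ χ, W χ * W' χ = 0 := by
    intro H K e f W W' hW hW' he hf h
    exact hW.orth hW' he hf h
  have hort : [D, A, X, a, b, s, w, u].Pairwise (fun f g : IrrCharacter G → ℤ => ∑ i, f i * g i = 0) := by
    simp only [List.pairwise_cons, List.mem_cons, List.not_mem_nil, or_false, forall_eq_or_imp, forall_eq,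
      IsEmpty.forall_iff, implies_true, List.Pairwise.nil, and_true]
    refine ⟨⟨?_, ?_, ?_, ?_, ?_, ?_, ?_⟩, ⟨?_, ?_, ?_, ?_, ?_, ?_⟩, ⟨?_, ?_, ?_, ?_, ?_⟩, ⟨?_, ?_, ?_, ?_⟩, ⟨?_, ?_, ?_⟩,
      ⟨?_, ?_⟩, ?_⟩
    · exact oD cA (by norm_num)
    · exact oD cX (by norm_num)
    · exact oD ca (by norm_num)
    · exact oD cb (by norm_num)
    · exact oD cs (by norm_num)
    · exact oD cw (by norm_num)
    · exact oD cu (by norm_num)
    · exact oo cA cX (by norm_num) (by norm_num) hAX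
    · exact oo cA ca (by norm_num) (by norm_num) (nc_of_card hp11 q23 (by norm_num) pA pa)
    · exact oo cA cb (by norm_num) (by norm_num) (nc_of_card hp11 q29 (by norm_num) pA pb)
    · exact oo cA cs (by norm_num) (by norm_num) (nc_of_card hp11 q31 (by norm_num) pA ps)
    · exact oo cA cw (by norm_num) (by norm_num) (nc_of_card hp11 q43 (by norm_num) pA pw)
    · exact oo cA cu (by norm_num) (by norm_num) (nc_of_card hp11 q37 (by norm_num) pA pu)
    · exact oo cX ca (by norm_num) (by norm_num) (nc_of_card hp11 q23 (by norm_num) pX pa)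
    · exact oo cX cb (by norm_num) (by norm_num) (nc_of_card hp11 q29 (by norm_num) pX pb)
    · exact oo cX cs (by norm_num) (by norm_num) (nc_of_card hp11 q31 (by norm_num) pX ps)
    · exact oo cX cw (by norm_num) (by norm_num) (nc_of_card hp11 q43 (by norm_num) pX pw)
    · exact oo cX cu (by norm_num) (by norm_num) (nc_of_card hp11 q37 (by norm_num) pX pu)
    · exact oo ca cb (by norm_num) (by norm_num) (nc_of_card q23 q29 (by norm_num) pa pb)
    · exact oo ca cs (by norm_num) (by norm_num) (nc_of_card q23 q31 (by norm_num) pa ps)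
    · exact oo ca cw (by norm_num) (by norm_num) (nc_of_card q23 q43 (by norm_num) pa pw)
    · exact oo ca cu (by norm_num) (by norm_num) (nc_of_card q23 q37 (by norm_num) pa pu)
    · exact oo cb cs (by norm_num) (by norm_num) (nc_of_card q29 q31 (by norm_num) pb ps)
    · exact oo cb cw (by norm_num) (by norm_num) (nc_of_card q29 q43 (by norm_num) pb pw)
    · exact oo cb cu (by norm_num) (by norm_num) (nc_of_card q29 q37 (by norm_num) pb pu)
    · exact oo cs cw (by norm_num) (by norm_num) (nc_of_card q31 q43 (by norm_num) ps pw)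
    · exact oo cs cu (by norm_num) (by norm_num) (nc_of_card q31 q37 (by norm_num) ps pu)
    · exact oo cw cu (by norm_num) (by norm_num) (nc_of_card q43 q37 (by norm_num) pw pu)
  -- the exceptional characters
  have hconst : ∀ i ∈ E, ∀ j ∈ E, D i = D j ∧ V (D i) (A i) (X i) (a i) (b i) (s i) (w i) (u i) =
      V (D j) (A j) (X j) (a j) (b j) (s j) (w j) (u j) := by
    intro i hi j hj
    have hreg := hEr i hi j hj
    have e1 : D i = D j := by
      have h1 := hreg 1 (by rw [orderOf_one]; norm_num)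
      rw [deg_cast, deg_cast] at h1
      have h2 : deg i = deg j := by exact_mod_cast h1
      simp only [D, h2]
    have hc : ∀ {H : Subgroup G} {e q : ℕ} {W : IrrCharacter G → ℤ}, IsCol H e W → e ≠ 0 → q.Prime → q ≠ 37 →
        Nat.card H = q → W i = W j := by
      intro H e q W hW he hq hq37 hH
      refine isCol_unique he hW fun z hz => hreg z ?_
      by_cases h1 : z = 1
      · rw [h1, orderOf_one]; norm_num
      · rw [orderOf_of_card hq hH hz h1]
        intro h2
        exact hq37 ((Nat.prime_dvd_prime_iff_eq q37 hq).1 h2).symm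
    refine ⟨e1, ?_⟩
    rw [e1, hc cA (by norm_num) hp11 (by norm_num) pA, hc cX (by norm_num) hp11 (by norm_num) pX,
      hc ca (by norm_num) q23 (by norm_num) pa, hc cb (by norm_num) q29 (by norm_num) pb,
      hc cs (by norm_num) q31 (by norm_num) ps, hc cw (by norm_num) q43 (by norm_num) pw, hEd i hi, hEd j hj]
  have hy : (1331 : ℤ) ∣ (Δ.y : ℤ) - 24 → (Δ.y : ℤ) = 24 := y_eq Δ.hy
  have key := core (D := D) (A := A) (X := X) (a := a) (b := b) (s := s) (w := w) (u := u)
    (h23 := fun i => by exact_mod_cast da i) (h29 := fun i => by exact_mod_cast db i)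
    (h31 := fun i => by exact_mod_cast ds i) (h37 := fun i => by exact_mod_cast du i)
    (h43 := fun i => by exact_mod_cast dw i)
    (hc := fun i => by have := cA.dvd i; rw [pA] at this; exact_mod_cast this)
    (hx := fun i => by have := cX.dvd i; rw [pX] at this; exact_mod_cast this)
    (hU := fun i => by
      have h1 := hU.dvd i
      rw [Δ.cardU] at h1
      have h2 : D i + 10 * A i + 1320 * X i = (deg i : ℤ) + ((1 : ℕ) : ℤ) * (10 * A i + 1320 * X i) := by
        simp only [D]; push_cast; ring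
      rw [h2]
      exact_mod_cast h1)
    hy qD (by rw [qA, Δ.cy]; push_cast; ring) (by rw [qX, Δ.cx]; norm_num) (by rw [qa]; norm_num) (by rw [qb]; norm_num)
    (by rw [qs]; norm_num) (by rw [qw]; norm_num) (by rw [qu]; norm_num) hort (E := E) hE
    (fun i hi => by exact_mod_cast hEn i hi)
    (fun i => by
      have h1 : (0 : ℤ) < deg i := by
        have h2 : deg i ≠ 0 := by
          intro h3
          have h4 := deg_cast i
          rw [h3, Nat.cast_zero] at h4
          exact (isIrr_apply_one_ne_zero i.2) h4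
        omega
      exact h1) hconst
  have hne : E.Nonempty := by
    rw [← Finset.card_pos, hE]; norm_num
  obtain ⟨χ, hχ⟩ := hne
  refine ⟨χ, ?_⟩
  have h1 := key χ hχ
  have h2 : (deg χ : ℤ) = 1981808640 := h1
  exact_mod_cast h2

end Cfsg.Agent.H894.J4Two
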