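import Mathlib

/-!
# Derangements in transitive groups (Cameron–Cohen)

For a finite group `G` transitive on `Ω` with `n = |Ω|` points, rank `r` (number of orbits on
`Ω × Ω`) and permutation character `π`,

  `n * |{derangements}| = (r - 1) * |G| + ∑_{π g ≥ 1} (π g - 1) * (n - π g)`.
-/

set_option autoImplicit false

namespace Cfsg.Agent.H894

open MulAction

variable {G Ω : Type*} [Group G] [MulAction G Ω]

/-- The rank of an action: the number of orbits on ordered pairs. -/
noncomputable def rank (G Ω : Type*) [Group G] [MulAction G Ω] : ℕ :=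
  Nat.card (Quotient (orbitRel G (Ω × Ω)))

theorem sum_fix [Fintype G] [Finite Ω] [Nonempty Ω] (htr : IsPretransitive G Ω) :
    ∑ g : G, Nat.card (fixedBy Ω g) = Nat.card G := by
  classical
  have hF : Fintype Ω := Fintype.ofFinite _
  have h1 := MulAction.sum_card_fixedBy_eq_card_orbits_mul_card_group G Ω
  have h2 : Fintype.card (Quotient (orbitRel G Ω)) = 1 := by
    rw [Fintype.card_eq_one_iff]
    obtain ⟨ω⟩ := ‹Nonempty Ω›
    refine ⟨Quotient.mk _ ω, fun q => ?_⟩
    induction q using Quotient.inductionOn with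
    | h ω' => exact Quotient.sound (MulAction.exists_smul_eq G ω ω')
  rw [h2, one_mul] at h1
  rw [Nat.card_eq_fintype_card, ← h1]
  exact Finset.sum_congr rfl fun g _ => Nat.card_eq_fintype_card

theorem sum_fix_sq [Fintype G] [Finite Ω] :
    ∑ g : G, Nat.card (fixedBy Ω g) ^ 2 = rank G Ω * Nat.card G := by
  classical
  have hF : Fintype Ω := Fintype.ofFinite _
  have h1 := MulAction.sum_card_fixedBy_eq_card_orbits_mul_card_group G (Ω × Ω)
  rw [rank, Nat.card_eq_fintype_card, Nat.card_eq_fintype_card, ← h1]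
  refine Finset.sum_congr rfl fun g _ => ?_
  rw [sq, ← Nat.card_prod, Nat.card_eq_fintype_card]
  apply Fintype.card_congr
  refine ⟨fun x => ⟨(x.1.1, x.2.1), ?_⟩, fun x => (⟨x.1.1, ?_⟩, ⟨x.1.2, ?_⟩), ?_, ?_⟩
  · exact Prod.ext x.1.2 x.2.2
  · exact (Prod.ext_iff.1 x.2).1
  · exact (Prod.ext_iff.1 x.2).2
  · intro x; rfl
  · intro x; rfl

/-- **Cameron–Cohen formula.** -/
theorem card_mul_card_derangements [Fintype G] [Finite Ω] [Nonempty Ω]
    (htr : IsPretransitive G Ω) [DecidablePred fun g : G => 1 ≤ Nat.card (fixedBy Ω g)] :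
    (Nat.card Ω : ℤ) * Nat.card {g : G // ∀ ω : Ω, g • ω ≠ ω} =
      ((rank G Ω : ℤ) - 1) * Nat.card G +
        ∑ g : G with 1 ≤ Nat.card (fixedBy Ω g),
          ((Nat.card (fixedBy Ω g) : ℤ) - 1) * (Nat.card Ω - Nat.card (fixedBy Ω g)) := by
  classical
  have h1 := sum_fix (G := G) (Ω := Ω) htr
  have h2 := sum_fix_sq (G := G) (Ω := Ω)
  have h3 : ∑ g : G, ((Nat.card (fixedBy Ω g) : ℤ) - 1) * (Nat.card Ω - Nat.card (fixedBy Ω g))
      = (1 - (rank G Ω : ℤ)) * Nat.card G := by
    have h1' : ∑ g : G, (Nat.card (fixedBy Ω g) : ℤ) = Nat.card G := by exact_mod_cast h1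
    have h2' : ∑ g : G, (Nat.card (fixedBy Ω g) : ℤ) ^ 2 = rank G Ω * Nat.card G := by
      exact_mod_cast h2
    calc ∑ g : G, ((Nat.card (fixedBy Ω g) : ℤ) - 1) * (Nat.card Ω - Nat.card (fixedBy Ω g))
        = ∑ g : G, (((Nat.card Ω : ℤ) + 1) * (Nat.card (fixedBy Ω g) : ℤ)
            - (Nat.card (fixedBy Ω g) : ℤ) ^ 2 - Nat.card Ω) := by
          refine Finset.sum_congr rfl fun g _ => ?_; ring
      _ = ((Nat.card Ω : ℤ) + 1) * Nat.card G - rank G Ω * Nat.card G
            - Nat.card G * Nat.card Ω := by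
          rw [Finset.sum_sub_distrib, Finset.sum_sub_distrib, ← Finset.mul_sum, h1', h2',
            Finset.sum_const, Finset.card_univ, ← Nat.card_eq_fintype_card, nsmul_eq_mul]
      _ = _ := by ring
  rw [← Finset.sum_filter_add_sum_filter_not Finset.univ
    (fun g : G => 1 ≤ Nat.card (fixedBy Ω g))] at h3
  have h4 : ∑ g : G with ¬ 1 ≤ Nat.card (fixedBy Ω g),
      ((Nat.card (fixedBy Ω g) : ℤ) - 1) * (Nat.card Ω - Nat.card (fixedBy Ω g))
      = - ((Nat.card Ω : ℤ) * Nat.card {g : G // ∀ ω : Ω, g • ω ≠ ω}) := by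
    have h5 : ∀ g ∈ (Finset.univ.filter fun g : G => ¬ 1 ≤ Nat.card (fixedBy Ω g)),
        ((Nat.card (fixedBy Ω g) : ℤ) - 1) * (Nat.card Ω - Nat.card (fixedBy Ω g))
          = - (Nat.card Ω : ℤ) := by
      intro g hg
      rw [Finset.mem_filter] at hg
      have : Nat.card (fixedBy Ω g) = 0 := by omega
      rw [this]; push_cast; ring
    rw [Finset.sum_congr rfl h5, Finset.sum_const, nsmul_eq_mul]
    have h6 : (Finset.univ.filter fun g : G => ¬ 1 ≤ Nat.card (fixedBy Ω g)).card
        = Nat.card {g : G // ∀ ω : Ω, g • ω ≠ ω} := by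
      rw [Nat.card_eq_fintype_card, Fintype.card_subtype]
      congr 1
      ext g
      rw [Finset.mem_filter, Finset.mem_filter]
      refine and_congr_right fun _ => ?_
      rw [not_le, Nat.lt_one_iff, Finite.card_eq_zero_iff, isEmpty_subtype]
      rfl
    rw [h6]; ring
  rw [h4] at h3
  linarith

/-- The terms of the sum in `card_mul_card_derangements` are nonnegative. -/
theorem term_nonneg [Finite Ω] (g : G) (hg : 1 ≤ Nat.card (fixedBy Ω g)) :
    0 ≤ ((Nat.card (fixedBy Ω g) : ℤ) - 1) * (Nat.card Ω - Nat.card (fixedBy Ω g)) := by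
  have h1 : Nat.card (fixedBy Ω g) ≤ Nat.card Ω :=
    Nat.card_le_card_of_injective _ Subtype.val_injective
  apply mul_nonneg
  · have : (1 : ℤ) ≤ Nat.card (fixedBy Ω g) := by exact_mod_cast hg
    linarith
  · have : (Nat.card (fixedBy Ω g) : ℤ) ≤ Nat.card Ω := by exact_mod_cast h1
    linarith

/-- `n * |{derangements}| ≥ (rank - 1) * |G|`. -/
theorem rank_sub_one_mul_card_le [Finite G] [Finite Ω] [Nonempty Ω]
    (htr : IsPretransitive G Ω) :
    ((rank G Ω : ℤ) - 1) * Nat.card G ≤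
      (Nat.card Ω : ℤ) * Nat.card {g : G // ∀ ω : Ω, g • ω ≠ ω} := by
  classical
  have hF : Fintype G := Fintype.ofFinite _
  rw [card_mul_card_derangements htr]
  have : 0 ≤ ∑ g : G with 1 ≤ Nat.card (fixedBy Ω g),
          ((Nat.card (fixedBy Ω g) : ℤ) - 1) * (Nat.card Ω - Nat.card (fixedBy Ω g)) :=
    Finset.sum_nonneg fun g hg => term_nonneg g (Finset.mem_filter.1 hg).2
  linarith

/-- If `n * |{derangements}| ≤ (rank - 1) * |G|` then the permutation character takes only the
values `0`, `1` and `n`. -/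
theorem fix_of_eq [Finite G] [Finite Ω] [Nonempty Ω]
    (htr : IsPretransitive G Ω)
    (h : (Nat.card Ω : ℤ) * Nat.card {g : G // ∀ ω : Ω, g • ω ≠ ω} ≤
      ((rank G Ω : ℤ) - 1) * Nat.card G) (g : G) :
    Nat.card (fixedBy Ω g) = 0 ∨ Nat.card (fixedBy Ω g) = 1 ∨
      Nat.card (fixedBy Ω g) = Nat.card Ω := by
  classical
  have hF : Fintype G := Fintype.ofFinite _
  rw [card_mul_card_derangements htr] at h
  have h0 : ∑ g : G with 1 ≤ Nat.card (fixedBy Ω g),
          ((Nat.card (fixedBy Ω g) : ℤ) - 1) * (Nat.card Ω - Nat.card (fixedBy Ω g)) = 0 := by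
    apply le_antisymm (by linarith)
    exact Finset.sum_nonneg fun g hg => term_nonneg g (Finset.mem_filter.1 hg).2
  rw [Finset.sum_eq_zero_iff_of_nonneg
    (fun g hg => term_nonneg g (Finset.mem_filter.1 hg).2)] at h0
  by_cases hg : 1 ≤ Nat.card (fixedBy Ω g)
  · have h1 := h0 g (Finset.mem_filter.2 ⟨Finset.mem_univ _, hg⟩)
    rcases mul_eq_zero.1 h1 with h2 | h2
    · right; left; have : (Nat.card (fixedBy Ω g) : ℤ) = 1 := by linarith
      exact_mod_cast this
    · right; right; have : (Nat.card (fixedBy Ω g) : ℤ) = Nat.card Ω := by linarith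
      exact_mod_cast this
  · left; omega

/-- The rank of a transitive group of degree at least two is at least two. -/
theorem two_le_rank [Finite G] [Finite Ω] (h : 2 ≤ Nat.card Ω) : 2 ≤ rank G Ω := by
  classical
  have : Nontrivial Ω := Finite.one_lt_card_iff_nontrivial.1 h
  obtain ⟨a, b, hab⟩ := exists_pair_ne Ω
  have h1 : Nontrivial (Quotient (orbitRel G (Ω × Ω))) := by
    refine ⟨⟨Quotient.mk _ (a, a), Quotient.mk _ (a, b), ?_⟩⟩
    intro he
    obtain ⟨g, hg⟩ := Quotient.exact he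
    have h2 : g • a = a := (Prod.ext_iff.1 hg).1
    have h3 : g • b = a := (Prod.ext_iff.1 hg).2
    exact hab (smul_left_cancel g (h2.trans h3.symm))
  exact Finite.one_lt_card_iff_nontrivial.2 h1

end Cfsg.Agent.H894
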