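import Cfsg.Agent.H894.CompSymp2
import Cfsg.Agent.S0493
import Cfsg.Prelude.Def_KGroupFacts

/-!
# Composition length: the almost simple case
-/

set_option autoImplicit false

namespace Cfsg.Agent.H894

open Cfsg Cfsg.Geo Matrix Cfsg.Agent.H893 Cfsg.Agent.H912
open Cfsg.Agent.H920 (mem_scalars_of_comm' center_eq)

universe u v w

/-- The bound for outer automorphism groups (statement S5879). -/
def OutBound : Prop :=
  ∀ (T : Type u) [Group T] [Finite T] [IsSimpleGroup T], ¬ IsMulCommutative T →
    ∀ H : Subgroup T, H ≠ ⊤ → (Nat.card (Cfsg.Out T) : ℝ) ≤ 3 * Real.logb 2 (H.index : ℝ)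

theorem sixty_le {T : Type u} [Group T] [Finite T] [IsSimpleGroup T] (hT : ¬ IsMulCommutative T) :
    60 ≤ Nat.card T := by
  by_contra hcon
  have hc : ¬ IsCyclic T := by
    intro h
    exact hT h.commutative
  have := Cfsg.Agent.S0493.result hc (by omega)
  omega

theorem conj_injective {T : Type u} [Group T] [IsSimpleGroup T] (hT : ¬ IsMulCommutative T) :
    Function.Injective (MulAut.conj : T →* MulAut T) := by
  rw [← MonoidHom.ker_eq_bot_iff]
  have hc : (MulAut.conj : T →* MulAut T).ker ≤ Subgroup.center T := by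
    intro x hx
    rw [Subgroup.mem_center_iff]
    intro y
    have h1 : MulAut.conj x y = y := by rw [(MonoidHom.mem_ker).1 hx]; rfl
    rw [MulAut.conj_apply] at h1
    calc y * x = x * y * x⁻¹ * x := by rw [h1]
      _ = x * y := by group
  rcases (inferInstance : (Subgroup.center T).Normal).eq_bot_or_eq_top with h | h
  · rw [eq_bot_iff, ← h]; exact hc
  · exfalso
    apply hT
    refine ⟨⟨fun a b => ?_⟩⟩
    have : b ∈ Subgroup.center T := by rw [h]; trivial
    exact (Subgroup.mem_center_iff.1 this) a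

theorem simple_aux {F : Type u} [Field F] [Fintype F] {d : ℕ} (hd : 2 ≤ d)
    {H P : Subgroup (GL (Fin d) F)} (hcore : Cfsg.Agent.H919.CoreNS H P) (hout : OutBound.{u}) :
    ∃ a b M : ℕ, clen H ≤ a + 1 + b ∧ a ≤ clen Fˣ ∧ 2 ^ a * (60 * 2 ^ b) ≤ Nat.card H ∧
      M * (Fintype.card F - 1) = Fintype.card F ^ d - 1 ∧ (2 : ℝ) ^ b ≤ 3 * Real.logb 2 M := by
  classical
  have hne : Nonempty (Fin d) := ⟨⟨0, by omega⟩⟩
  let Z := (scalars (Fin d) F).subgroupOf P
  let T := P ⧸ Z
  have hsimp : IsSimpleGroup T := hcore.simple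
  have hnab : ¬ IsMulCommutative T := hcore.nonabelian
  let f : H →* MulAut T := qE hcore.normal
  let π : f.range →* Cfsg.Out T := (QuotientGroup.mk' (Inn T)).comp f.range.subtype
  -- the kernel of `f` is scalar
  have hker : ∀ h : f.ker, ((h : H) : GL (Fin d) F) ∈ scalars (Fin d) F := by
    intro h
    refine hcore.centralizer_scalar _ (h : H).2 (fun x hx => ?_)
    have h1 : f (h : H) (QuotientGroup.mk (⟨x, hx⟩⁻¹ : P)) = QuotientGroup.mk (⟨x, hx⟩⁻¹ : P) := by
      rw [(MonoidHom.mem_ker).1 h.2]; rfl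
    have h2 : (QuotientGroup.mk (cE hcore.normal (h : H) (⟨x, hx⟩⁻¹ : P)) : T) =
        QuotientGroup.mk (⟨x, hx⟩⁻¹ : P) := by
      rw [← qE_mk hcore.normal]; exact h1
    rw [QuotientGroup.eq] at h2
    have h3 : (((cE hcore.normal (h : H) (⟨x, hx⟩⁻¹ : P))⁻¹ * (⟨x, hx⟩⁻¹ : P) : P) : GL (Fin d) F) =
        ((h : H) : GL (Fin d) F) * x * ((h : H) : GL (Fin d) F)⁻¹ * x⁻¹ := by
      change (((h : H) : GL (Fin d) F) * x⁻¹ * ((h : H) : GL (Fin d) F)⁻¹)⁻¹ * x⁻¹ = _
      group
    have h4 : (((cE hcore.normal (h : H) (⟨x, hx⟩⁻¹ : P))⁻¹ * (⟨x, hx⟩⁻¹ : P) : P) : GL (Fin d) F) ∈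
        scalars (Fin d) F := h2
    rw [h3] at h4
    exact h4
  have ha : clen f.ker ≤ clen Fˣ := by
    rw [← clen_scalars (F := F) (by omega : 0 < d)]
    have hcomm := comm_scalars (F := F) (d := d)
    let g : f.ker →* scalars (Fin d) F :=
      { toFun := fun x => ⟨((x : H) : GL (Fin d) F), hker x⟩
        map_one' := rfl
        map_mul' := fun _ _ => rfl }
    refine clen_le_of_injective g ?_ inferInstance
    intro x y hxy
    apply Subtype.ext; apply Subtype.ext
    exact congrArg (fun w : scalars (Fin d) F => (w : GL (Fin d) F)) hxy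
  -- inner automorphisms
  have hInn : Inn T ≤ f.range := by
    rintro _ ⟨q, rfl⟩
    induction q using QuotientGroup.induction_on with
    | H x =>
      refine ⟨⟨x, hcore.le x.2⟩, ?_⟩
      apply MulEquiv.ext; intro q
      induction q using QuotientGroup.induction_on with
      | H y =>
        change qE hcore.normal ⟨x, hcore.le x.2⟩ (QuotientGroup.mk y) = _
        rw [qE_mk, MulAut.conj_apply]
        rfl
  have hπker : π.ker = (Inn T).subgroupOf f.range := by
    ext x
    rw [MonoidHom.mem_ker, Subgroup.mem_subgroupOf]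
    change QuotientGroup.mk' (Inn T) (x : MulAut T) = 1 ↔ _
    rw [QuotientGroup.mk'_apply, QuotientGroup.eq_one_iff]
  have e1 : π.ker ≃* T := by
    rw [hπker]
    exact (Subgroup.subgroupOfEquivOfLe hInn).trans (MonoidHom.ofInjective (conj_injective hnab)).symm
  have hc1 : clen π.ker = 1 := by rw [clen_congr e1, clen_of_simple]
  have hcard1 : 60 ≤ Nat.card π.ker := by rw [Nat.card_congr e1.toEquiv]; exact sixty_le hnab
  have hcl : clen H = clen f.ker + (1 + clen π.range) := by
    rw [clen_range f, clen_range π, hc1]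
  have hcard : Nat.card H = Nat.card f.ker * (Nat.card π.ker * Nat.card π.range) := by
    rw [← Subgroup.index_ker π, Subgroup.card_mul_index, ← Subgroup.index_ker f,
      Subgroup.card_mul_index]
  -- the line stabiliser
  let i₀ : Fin d := ⟨0, by omega⟩
  let v : Fin d → F := Pi.single i₀ 1
  have hv : v ≠ 0 := by
    intro h
    have := congrFun h i₀
    simp [v] at this
  have hgv : ∀ g : GL (Fin d) F, (g : Matrix (Fin d) (Fin d) F) *ᵥ v ≠ 0 := by
    intro g h
    apply hv
    have h1 := congrArg (fun w => ((g⁻¹ : GL (Fin d) F) : Matrix (Fin d) (Fin d) F) *ᵥ w) h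
    simp only [mulVec_mulVec, mulVec_zero] at h1
    rwa [← Units.val_mul, inv_mul_cancel, Units.val_one, one_mulVec] at h1
  let S : Subgroup P :=
    { carrier := {x | ∃ c : Fˣ, ((x : GL (Fin d) F) : Matrix (Fin d) (Fin d) F) *ᵥ v = (c : F) • v}
      one_mem' := ⟨1, by simp⟩
      mul_mem' := by
        rintro x y ⟨c, hc⟩ ⟨c', hc'⟩
        refine ⟨c * c', ?_⟩
        rw [Subgroup.coe_mul, Units.val_mul, ← mulVec_mulVec, hc', mulVec_smul, hc, smul_smul,
          Units.val_mul, mul_comm]
      inv_mem' := by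
        rintro x ⟨c, hc⟩
        refine ⟨c⁻¹, ?_⟩
        have h1 := congrArg (fun w => (((x : GL (Fin d) F)⁻¹ : GL (Fin d) F) :
          Matrix (Fin d) (Fin d) F) *ᵥ w) hc
        simp only [mulVec_mulVec, mulVec_smul] at h1
        rw [← Units.val_mul, inv_mul_cancel, Units.val_one, one_mulVec] at h1
        rw [Subgroup.coe_inv]
        calc (((x : GL (Fin d) F)⁻¹ : GL (Fin d) F) : Matrix (Fin d) (Fin d) F) *ᵥ v
            = ((c⁻¹ : Fˣ) : F) • ((c : F) • ((((x : GL (Fin d) F)⁻¹ : GL (Fin d) F) :
              Matrix (Fin d) (Fin d) F) *ᵥ v)) := by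
              rw [smul_smul, ← Units.val_mul, inv_mul_cancel, Units.val_one, one_smul]
          _ = _ := by rw [← h1] }
  have hS : ∀ x : P, x ∈ S ↔
      ∃ c : Fˣ, ((x : GL (Fin d) F) : Matrix (Fin d) (Fin d) F) *ᵥ v = (c : F) • v := fun x => Iff.rfl
  have hindex : S.index ≤ Nat.card (Projectivization F (Fin d → F)) := by
    rw [Subgroup.index]
    let Φ : P ⧸ S → Projectivization F (Fin d → F) := Quotient.lift
      (fun x : P => Projectivization.mk F (((x : GL (Fin d) F) : Matrix (Fin d) (Fin d) F) *ᵥ v)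
        (hgv x)) (by
        intro x y hxy
        have h1 : x⁻¹ * y ∈ S := (QuotientGroup.leftRel_apply).1 hxy
        obtain ⟨c, hc⟩ := h1
        change Projectivization.mk F _ _ = Projectivization.mk F _ _
        rw [Projectivization.mk_eq_mk_iff]
        refine ⟨c⁻¹, ?_⟩
        have h2 : ((y : GL (Fin d) F) : Matrix (Fin d) (Fin d) F) *ᵥ v =
            (c : F) • (((x : GL (Fin d) F) : Matrix (Fin d) (Fin d) F) *ᵥ v) := by
          have h3 : (y : GL (Fin d) F) = (x : GL (Fin d) F) * ((x⁻¹ * y : P) : GL (Fin d) F) := by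
            push_cast; group
          rw [h3, Units.val_mul, ← mulVec_mulVec, hc, mulVec_smul]
        rw [h2, Units.smul_def, smul_smul, ← Units.val_mul, inv_mul_cancel, Units.val_one,
          one_smul])
    apply Nat.card_le_card_of_injective Φ
    intro a b hab
    induction a using QuotientGroup.induction_on with
    | H x =>
      induction b using QuotientGroup.induction_on with
      | H y =>
        have h1 : Projectivization.mk F (((x : GL (Fin d) F) : Matrix (Fin d) (Fin d) F) *ᵥ v)
          (hgv x) = Projectivization.mk F (((y : GL (Fin d) F) : Matrix (Fin d) (Fin d) F) *ᵥ v)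
          (hgv y) := hab
        rw [Projectivization.mk_eq_mk_iff] at h1
        obtain ⟨c, hc⟩ := h1
        rw [QuotientGroup.eq]
        refine ⟨c⁻¹, ?_⟩
        have h2 : ((x : GL (Fin d) F) : Matrix (Fin d) (Fin d) F) *ᵥ v =
            (c : F) • (((y : GL (Fin d) F) : Matrix (Fin d) (Fin d) F) *ᵥ v) := hc.symm
        have h3 : ((y : GL (Fin d) F) : Matrix (Fin d) (Fin d) F) *ᵥ v =
            ((c⁻¹ : Fˣ) : F) • (((x : GL (Fin d) F) : Matrix (Fin d) (Fin d) F) *ᵥ v) := by
          rw [h2, smul_smul, ← Units.val_mul, inv_mul_cancel, Units.val_one, one_smul]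
        have h4 : ((x⁻¹ * y : P) : GL (Fin d) F) = (x : GL (Fin d) F)⁻¹ * (y : GL (Fin d) F) := rfl
        rw [h4, Units.val_mul, ← mulVec_mulVec, h3, mulVec_smul, mulVec_mulVec, ← Units.val_mul,
          inv_mul_cancel, Units.val_one, one_mulVec]
  have hZS : Z ≤ S := by
    intro x hx
    obtain ⟨c, hc⟩ := (mem_scalars_iff _).1 hx
    refine ⟨c, ?_⟩
    have h1 : ((x : GL (Fin d) F) : Matrix (Fin d) (Fin d) F) = (c : F) • 1 := hc
    rw [h1, smul_mulVec, one_mulVec]
  let S' : Subgroup T := S.map (QuotientGroup.mk' Z)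
  have hS'index : S'.index = S.index := by
    apply Subgroup.index_map_eq
    · exact QuotientGroup.mk'_surjective Z
    · rw [QuotientGroup.ker_mk']; exact hZS
  have hS' : S' ≠ ⊤ := by
    intro h
    have h1 : S.index = 1 := by rw [← hS'index, h, Subgroup.index_top]
    have h2 : S = ⊤ := Subgroup.index_eq_one.1 h1
    have h3 := hcore.absIrred.1 (Submodule.span F {v}) (by
      rintro _ ⟨x, hx, rfl⟩
      rw [Submodule.map_span_le]
      rintro w hw
      rw [Set.mem_singleton_iff] at hw
      subst hw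
      have h4 : (⟨x, hx⟩ : P) ∈ S := by rw [h2]; trivial
      obtain ⟨c, hc⟩ := h4
      rw [Matrix.toLin'_apply, hc]
      exact Submodule.smul_mem _ _ (Submodule.mem_span_singleton_self v))
    rcases h3 with h3 | h3
    · rw [Submodule.span_singleton_eq_bot] at h3
      exact hv h3
    · have h4 := congrArg (fun W : Submodule F (Fin d → F) => Module.finrank F W) h3
      simp only [finrank_span_singleton hv, finrank_top, Module.finrank_fintype_fun_eq_card,
        Fintype.card_fin] at h4
      omega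
  have hb := hout T hnab S' hS'
  refine ⟨clen f.ker, clen π.range, Nat.card (Projectivization F (Fin d → F)), by omega, ha, ?_, ?_, ?_⟩
  · rw [hcard]
    exact Nat.mul_le_mul two_pow_clen_le (Nat.mul_le_mul hcard1 two_pow_clen_le)
  · have h1 := Projectivization.card F (Fin d → F)
    rw [Nat.card_eq_fintype_card (α := F), Nat.card_eq_fintype_card (α := Fin d → F),
      Fintype.card_fun, Fintype.card_fin] at h1
    exact h1.symm
  · have h1 : (2 : ℝ) ^ clen π.range ≤ Nat.card (Cfsg.Out T) := by
      have h2 : 2 ^ clen π.range ≤ Nat.card (Cfsg.Out T) :=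
        two_pow_clen_le.trans (Subgroup.card_le_card_group _)
      exact_mod_cast h2
    refine h1.trans (hb.trans ?_)
    apply mul_le_mul_of_nonneg_left _ (by norm_num)
    have hpos : 0 < S'.index := Nat.pos_of_ne_zero Subgroup.index_ne_zero_of_finite
    apply Real.logb_le_logb_of_le (by norm_num) (by exact_mod_cast hpos)
    exact_mod_cast (hS'index ▸ hindex)

end Cfsg.Agent.H894
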