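import Cfsg.Agent.H526.OneBlock
import Cfsg.Agent.S0914

/-!
# A character of 2-defect zero gives more than one 2-block (helper894)
-/

set_option autoImplicit false

open Cfsg

namespace Cfsg.Agent.H894.DefZero

open Cfsg.Agent.Characters.Core
open Cfsg.Agent.H526.OB

/-- a nontrivial irreducible character of `p`-defect zero is not in the principal block -/
theorem notMem_principalBlock {G : Type*} [Group G] [Finite G] {p : ℕ} [Fact p.Prime] {M : Ideal AlgInt}
    (hM : IsPModular p M) (χ : IrrCharacter G) (h1 : charDegree (χ : G → ℂ) ≠ 1)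
    (h : ¬ p ∣ Nat.card G / charDegree (χ : G → ℂ)) : χ ∉ principalBlock M G := by
  intro hχ
  have h2 := (S0914.result p M hM χ).1 h
  have h3 : triv G ∈ blockOf M (χ : G → ℂ) := by
    have h4 : SameBlock M (fun _ : G => (1 : ℂ)) (χ : G → ℂ) := hχ
    have hprime : M.IsPrime := Blocks.Local.isPrime_of_isPModular hM
    exact Blocks.Basic.sameBlock_symm h4
  rw [h2, Set.mem_singleton_iff] at h3
  apply h1
  rw [← h3]
  unfold charDegree triv
  simp

/-- **more than one 2-block from a character of 2-defect zero** -/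
theorem nb_of_degree {G : Type*} [Group G] [Finite G] (χ : IrrCharacter G) (h1 : charDegree (χ : G → ℂ) ≠ 1)
    (h : ¬ 2 ∣ Nat.card G / charDegree (χ : G → ℂ)) : NB G := by
  have : Fact (Nat.Prime 2) := ⟨Nat.prime_two⟩
  exact fun M hM => ⟨χ, notMem_principalBlock hM χ h1 h⟩

end Cfsg.Agent.H894.DefZero
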