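import Cfsg.Agent.H894.J4TwoMain
import Cfsg.Agent.H894.DefZero
import Cfsg.Agent.H859.BigNum

/-!
# The fourth Janko group has a character of 2-defect zero (helper894)

`exists_degree`: an irreducible character of degree `1981808640 = 2 ^ 21 * 3 ^ 3 * 5 * 7`.
-/

set_option autoImplicit false

open Cfsg Subgroup

namespace Cfsg.Agent.H894.J4Two

open Cfsg.Agent.H858.FixJ4 (card_J4)
open Cfsg.Agent.H859
open Cfsg.Agent.H859.BigCent
open Cfsg.Agent.H859.BigNum

theorem not_dvd_cent {q : ℕ} (hq : q.Prime)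
    (hN : ∀ P : Subgroup Cfsg.Spor.J4, Nat.card P = q → ¬ 11 ∣ Nat.card (normalizer (P : Set Cfsg.Spor.J4))) :
    ¬ q ∣ Nat.card (centralizer ({NU.c} : Set Cfsg.Spor.J4)) := by
  intro h
  have : Fact q.Prime := ⟨hq⟩
  obtain ⟨s, hs⟩ := exists_prime_orderOf_dvd_card' q h
  have hs' : orderOf (s : Cfsg.Spor.J4) = q := by rw [Subgroup.orderOf_coe, hs]
  apply hN (zpowers (s : Cfsg.Spor.J4)) (by rw [Nat.card_zpowers, hs'])
  have h1 : NU.c ∈ normalizer ((zpowers (s : Cfsg.Spor.J4) : Subgroup Cfsg.Spor.J4) : Set Cfsg.Spor.J4) := by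
    apply Subgroup.centralizer_le_normalizer
    rw [SmallSimple.SelfCentPrime.centralizer_zpowers, mem_centralizer_singleton_iff]
    exact (mem_centralizer_singleton_iff.1 s.2).symm
  have h2 := orderOf_dvd_natCard (⟨NU.c, h1⟩ : normalizer ((zpowers (s : Cfsg.Spor.J4) :
    Subgroup Cfsg.Spor.J4) : Set Cfsg.Spor.J4))
  rw [Subgroup.orderOf_mk, ClassEleven.orderOf_c] at h2
  exact h2

theorem exists_y : ∃ y : ℕ, Nat.card (centralizer ({NU.c} : Set Cfsg.Spor.J4)) = 1331 * y ∧
    y ∣ 2 ^ 21 * 3 ^ 3 := by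
  have h0 : 1331 ∣ Nat.card (centralizer ({NU.c} : Set Cfsg.Spor.J4)) := by
    have h1 := card_dvd_of_le (SylEleven.U_le_centralizer (mem_zpowers NU.c))
    rw [NU.card_U] at h1
    exact h1
  obtain ⟨y, hy⟩ := h0
  refine ⟨y, hy, ?_⟩
  have h1 := card_subgroup_dvd_card (centralizer ({NU.c} : Set Cfsg.Spor.J4))
  rw [hy, card_J4, show 86775571046077562880 =
    1331 * (2 ^ 21 * 3 ^ 3 * 5 * 7 * 23 * 29 * 31 * 37 * 43) by norm_num] at h1
  have h2 := Nat.dvd_of_mul_dvd_mul_left (by norm_num) h1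
  have key : ∀ {q : ℕ}, q.Prime →
      (∀ P : Subgroup Cfsg.Spor.J4, Nat.card P = q → ¬ 11 ∣ Nat.card (normalizer (P : Set Cfsg.Spor.J4))) →
      ¬ q ∣ y := by
    intro q hq hN h
    apply not_dvd_cent hq hN
    rw [hy]
    exact h.mul_left _
  have k43 : ¬ 43 ∣ y := key (by norm_num) fun P hP => by rw [(data43 hP).2]; norm_num
  have k37 : ¬ 37 ∣ y := key (by norm_num) fun P hP => by rw [(data37 hP).2]; norm_num
  have k31 : ¬ 31 ∣ y := key (by norm_num) fun P hP => by rw [(data31 hP).2]; norm_num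
  have k29 : ¬ 29 ∣ y := key (by norm_num) fun P hP => by rw [(data29' hP).2]; norm_num
  have k7 : ¬ 7 ∣ y := key (by norm_num) fun P hP => by rw [card_normalizer_seven hP]; norm_num
  have k5 : ¬ 5 ∣ y := key (by norm_num) fun P hP => by rw [card_normalizer_five hP]; norm_num
  -- the prime 23: `|N| = 23 * 22`, so the centralizer is used
  have k23 : ¬ 23 ∣ y := by
    intro h
    have h3 : 23 ∣ Nat.card (centralizer ({NU.c} : Set Cfsg.Spor.J4)) := by rw [hy]; exact h.mul_left _
    obtain ⟨s, hs⟩ := exists_prime_orderOf_dvd_card' 23 h3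
    have hs' : orderOf (s : Cfsg.Spor.J4) = 23 := by rw [Subgroup.orderOf_coe, hs]
    have h4 : NU.c ∈ centralizer ((zpowers (s : Cfsg.Spor.J4) : Subgroup Cfsg.Spor.J4) : Set Cfsg.Spor.J4) := by
      rw [SmallSimple.SelfCentPrime.centralizer_zpowers, mem_centralizer_singleton_iff]
      exact (mem_centralizer_singleton_iff.1 s.2).symm
    have h5 := orderOf_dvd_natCard (⟨NU.c, h4⟩ : centralizer ((zpowers (s : Cfsg.Spor.J4) :
      Subgroup Cfsg.Spor.J4) : Set Cfsg.Spor.J4))
    rw [Subgroup.orderOf_mk, ClassEleven.orderOf_c,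
      (data23 (P := zpowers (s : Cfsg.Spor.J4)) (by rw [Nat.card_zpowers, hs'])).1] at h5
    exact absurd h5 (by norm_num)
  have h3 := remove (by norm_num) h2 k43
  have h4 := remove (by norm_num) h3 k37
  have h5 := remove (by norm_num) h4 k31
  have h6 := remove (by norm_num) h5 k29
  have h7 := remove (by norm_num) h6 k23
  have h8 := remove (by norm_num) h7 k7
  exact remove (by norm_num) h8 k5

/-- the local data of the fourth Janko group -/
noncomputable def data : Data Cfsg.Spor.J4 where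
  card := card_J4
  c := NU.c
  x := SylEleven.x
  U := NU.U
  cardU := NU.card_U
  cU := SylEleven.c_mem
  xU := SylEleven.x_mem
  oc := ClassEleven.orderOf_c
  ox := ClassEleven.orderOf_x
  cc := fun z hz h1 => ClassEleven.isConj_c hz h1
  xx := by
    intro z hz h
    have h2 : z ∈ SylEleven.orb SylEleven.N SylEleven.x := by
      rw [SylEleven.orb_eq]
      exact ⟨hz, h⟩
    obtain ⟨n, -, hn⟩ := h2
    exact isConj_comm.1 (isConj_iff.2 ⟨n, hn.symm⟩)
  nc := ClassEleven.not_isConj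
  y := exists_y.choose
  cy := exists_y.choose_spec.1
  hy := exists_y.choose_spec.2
  cx := SylEleven.card_centralizer_x_eq
  h23 := fun _ hP => data23 hP
  h29 := fun _ hP => data29' hP
  h31 := fun _ hP => data31 hP
  h37 := fun _ hP => data37 hP
  h43 := fun _ hP => data43 hP

theorem exists_degree : ∃ χ : IrrCharacter Cfsg.Spor.J4, charDegree (χ : Cfsg.Spor.J4 → ℂ) = 1981808640 :=
  exists_charDegree data

/-- **`J4` has more than one 2-block** -/
theorem nb_J4 : H526.OB.NB Cfsg.Spor.J4 := by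
  obtain ⟨χ, hχ⟩ := exists_degree
  apply DefZero.nb_of_degree χ
  · rw [hχ]; norm_num
  · rw [hχ, card_J4]; norm_num

end Cfsg.Agent.H894.J4Two
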