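import Cfsg.Agent.H894.CompImp

/-!
# Composition length: groups acting irreducibly on elementary abelian groups
-/

set_option autoImplicit false

namespace Cfsg.Agent.H894

open Cfsg Cfsg.Geo Matrix Cfsg.Agent.H893 Cfsg.Agent.H912

universe u v w

theorem clen_mulAut_le {r k N : ℕ} (hr : r.Prime) {Q : Type v} [CommGroup Q] [Finite Q]
    (hexp : ∀ x : Q, x ^ r = 1) (hcard : Nat.card Q = r ^ k) {H : Type w} [Group H] [Finite H]
    (f : H →* MulAut Q)
    (hirr : ∀ L : Subgroup Q, (∀ h, ∀ x ∈ L, f h x ∈ L) → L = ⊥ ∨ L = ⊤)
    (hcl : Claim.{u} k N) (hN : Nat.card f.range ≤ N) : (clen f.range : ℝ) ≤ bd r k 1 := by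
  classical
  have hrp : Fact r.Prime := ⟨hr⟩
  let V := Additive Q
  let hm : Module (ZMod r) V := AddCommGroup.zmodModule (n := r) (fun x => by
    have : x.toMul ^ r = 1 := hexp x.toMul
    exact this)
  let F := ULift.{u} (ZMod r)
  let hmF : Module F V := inferInstance
  have hFin : Finite V := inferInstanceAs (Finite Q)
  have hsm : ∀ (c : F) (x : V), c • x = (c.down.val : ℕ) • x := by
    intro c x
    change c.down • x = _
    rw [← Nat.cast_smul_eq_nsmul (ZMod r), ZMod.natCast_zmod_val]
  let ρ : H →* (V ≃ₗ[F] V) :=
    { toFun := fun h =>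
        { toFun := fun x => Additive.ofMul (f h x.toMul)
          map_add' := fun x y => by
            change Additive.ofMul (f h (x.toMul * y.toMul)) = _
            rw [map_mul]; rfl
          map_smul' := fun c x => by
            rw [hsm, RingHom.id_apply, hsm]
            change Additive.ofMul (f h (x.toMul ^ c.down.val)) = _
            rw [map_pow]; rfl
          invFun := fun x => Additive.ofMul ((f h).symm x.toMul)
          left_inv := fun x => by simp
          right_inv := fun x => by simp }
      map_one' := by
        apply LinearEquiv.ext; intro x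
        change Additive.ofMul (f 1 x.toMul) = x
        rw [map_one]; rfl
      map_mul' := fun g h => by
        apply LinearEquiv.ext; intro x
        change Additive.ofMul (f (g * h) x.toMul) = Additive.ofMul (f g (f h x.toMul))
        rw [map_mul]; rfl }
  have hρ : ∀ h x, ρ h (Additive.ofMul x) = Additive.ofMul (f h x) := fun h x => rfl
  have hcardF : Fintype.card F = r ^ 1 := by
    rw [pow_one]
    change Fintype.card (ULift.{u} (ZMod r)) = r
    rw [Fintype.card_ulift, ZMod.card]
  have hfd : FiniteDimensional F V := Module.Finite.of_finite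
  have hrank : Module.finrank F V = k := by
    have h1 := Module.natCard_eq_pow_finrank (K := F) (V := V)
    have h2 : Nat.card V = r ^ k := hcard
    have h3 : Nat.card F = r := by rw [Nat.card_eq_fintype_card, hcardF, pow_one]
    rw [h2, h3] at h1
    exact (Nat.pow_right_injective hr.two_le h1).symm
  have hρirr : RepIrr ρ := by
    intro W hW
    let L : Subgroup Q :=
      { carrier := {x | Additive.ofMul x ∈ W}
        mul_mem' := fun {a b} ha hb => W.add_mem ha hb
        one_mem' := W.zero_mem
        inv_mem' := fun {a} ha => W.neg_mem ha }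
    rcases hirr L (fun h x hx => hW h _ hx) with h | h
    · left
      rw [eq_bot_iff]
      intro x hx
      have h1 : x.toMul ∈ L := hx
      rw [h, Subgroup.mem_bot] at h1
      exact h1
    · right
      rw [eq_top_iff]
      intro x _
      have h1 : x.toMul ∈ L := by rw [h]; trivial
      exact h1
  -- the ranges are isomorphic
  have hker : f.ker = ρ.ker := by
    ext h
    rw [MonoidHom.mem_ker, MonoidHom.mem_ker]
    constructor
    · intro hh
      apply LinearEquiv.ext; intro x
      change Additive.ofMul (f h x.toMul) = x
      rw [hh]; rfl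
    · intro hh
      apply MulEquiv.ext; intro x
      have := congrArg (fun T : V ≃ₗ[F] V => T (Additive.ofMul x)) hh
      exact this
  have e : f.range ≃* ρ.range :=
    (QuotientGroup.quotientKerEquivRange f).symm.trans
      ((QuotientGroup.quotientMulEquivOfEq hker).trans (QuotientGroup.quotientKerEquivRange ρ))
  rw [clen_congr e]
  refine clen_range_le_bd hcl hr le_rfl hcardF hrank ρ hρirr ?_
  rw [← Nat.card_congr e.toEquiv]
  exact hN

end Cfsg.Agent.H894
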