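import Cfsg.Agent.H894.CompRed

/-!
# Composition length: linear groups normalising an extension field
-/

set_option autoImplicit false

namespace Cfsg.Agent.H894

open Cfsg Cfsg.Geo Matrix Cfsg.Agent.H893 Cfsg.Agent.H912

universe u v w

section

variable {F : Type u} [Field F] [Fintype F] {d : ℕ}

/-- `K` acts on a normalised subalgebra by automorphisms. -/
noncomputable def conjHom {K : Subgroup (GL (Fin d) F)} {A : Subalgebra F (Matrix (Fin d) (Fin d) F)}
    (hA : NormAlg K A) : K →* (A ≃ₐ[F] A) where
  toFun h := conjSub hA h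
  map_one' := by
    apply AlgEquiv.ext; intro x; apply Subtype.ext
    rw [conjSub_coe]
    simp
  map_mul' g h := by
    apply AlgEquiv.ext; intro x; apply Subtype.ext
    rw [AlgEquiv.mul_apply, conjSub_coe, conjSub_coe, conjSub_coe]
    simp [mul_assoc]

theorem conjHom_coe {K : Subgroup (GL (Fin d) F)} {A : Subalgebra F (Matrix (Fin d) (Fin d) F)}
    (hA : NormAlg K A) (h : K) (x : A) : ((conjHom hA h x : A) : Matrix (Fin d) (Fin d) F) =
      ((h : GL (Fin d) F) : Matrix (Fin d) (Fin d) F) * x *
        (((h : GL (Fin d) F)⁻¹ : GL (Fin d) F) : Matrix (Fin d) (Fin d) F) := conjSub_coe hA h x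

omit [Fintype F] in
theorem normAlg_adjoin {K : Subgroup (GL (Fin d) F)} {S : Set (Matrix (Fin d) (Fin d) F)}
    (hS : ∀ h ∈ K, ∀ x ∈ S, (h : Matrix (Fin d) (Fin d) F) * x *
      ((h⁻¹ : GL (Fin d) F) : Matrix (Fin d) (Fin d) F) ∈ Algebra.adjoin F S) :
    NormAlg K (Algebra.adjoin F S) := by
  intro h hh a ha
  have h1 : (Algebra.adjoin F S).map
      (conjAlg h : Matrix (Fin d) (Fin d) F →ₐ[F] Matrix (Fin d) (Fin d) F) ≤
        Algebra.adjoin F S := by
    rw [AlgHom.map_adjoin, Algebra.adjoin_le_iff]
    rintro _ ⟨x, hx, rfl⟩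
    exact hS h hh x hx
  exact h1 ⟨a, ha, rfl⟩

theorem field_aux {p f N b : ℕ} (hp : p.Prime) (hf : 1 ≤ f) (hF : Fintype.card F = p ^ f)
    (hd : 1 ≤ d) (K : Subgroup (GL (Fin d) F)) (hirr : ActsIrreducibly (matrixSet K))
    (hN : Nat.card K ≤ N) {E : Subalgebra F (Matrix (Fin d) (Fin d) F)}
    (hE : IsFieldSubalgebra b E) (hb : 2 ≤ b) (hKE : NormAlg K E)
    (hcl : ∀ m, 1 ≤ m → m < d → Claim.{u} m N) :
    (clen K : ℝ) ≤ bd p d f := by
  classical
  have hne : Nonempty (Fin d) := ⟨⟨0, hd⟩⟩
  let fE : Field E := (isField_of_fieldSub hE).toField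
  have hfinE : Finite E := inferInstance
  let hftE : Fintype E := Fintype.ofFinite E
  have hFE : FiniteDimensional F E := inferInstance
  have hrank : Module.finrank F E = b := hE.finrank_eq
  have hcardE : Fintype.card E = p ^ (f * b) := by
    have h1 := Module.card_eq_pow_finrank (K := F) (V := E)
    rw [hrank, hF, ← pow_mul] at h1
    rw [← h1]
  -- dimension over E
  have hmul : b * Module.finrank E (Fin d → F) = d := by
    have h1 := Module.finrank_mul_finrank F E (Fin d → F)
    rwa [hrank, Module.finrank_fintype_fun_eq_card, Fintype.card_fin] at h1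
  set m := Module.finrank E (Fin d → F) with hm
  have hm1 : 1 ≤ m := by
    rcases Nat.eq_zero_or_pos m with h | h
    · rw [h] at hmul; omega
    · exact h
  have hmd : m < d := by
    rw [← hmul]
    calc m < 2 * m := by omega
      _ ≤ b * m := Nat.mul_le_mul_right m hb
  -- the action on E
  let χ := conjHom hKE
  have hχc : (clen χ.range : ℝ) ≤ Real.logb 2 b := by
    have h1 : Nat.card (E ≃ₐ[F] E) = b := by
      rw [← hrank]; exact IsGalois.card_aut_eq_finrank F E
    have h2 : 2 ^ clen χ.range ≤ b := by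
      refine two_pow_clen_le.trans ?_
      rw [← h1]
      exact Subgroup.card_le_card_group _
    have h3 : ((2 : ℝ) ^ clen χ.range) ≤ b := by exact_mod_cast h2
    rw [Real.le_logb_iff_rpow_le (by norm_num) (by exact_mod_cast (by omega : 0 < b)),
      Real.rpow_natCast]
    exact h3
  -- the kernel
  let n : Subgroup K := χ.ker
  have hcomm : ∀ (g : n) (e : E), ((g : K) : GL (Fin d) F).1 * (e : Matrix (Fin d) (Fin d) F) =
      (e : Matrix (Fin d) (Fin d) F) * ((g : K) : GL (Fin d) F).1 := by
    intro g e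
    have h1 : χ g = 1 := g.2
    have h2 := congrArg (fun a : E ≃ₐ[F] E => ((a e : E) : Matrix (Fin d) (Fin d) F)) h1
    have h3 : (((g : K) : GL (Fin d) F) : Matrix (Fin d) (Fin d) F) * e *
        ((((g : K) : GL (Fin d) F)⁻¹ : GL (Fin d) F) : Matrix (Fin d) (Fin d) F) = e := by
      rw [← conjHom_coe hKE (g : K) e]; exact h2
    calc ((g : K) : GL (Fin d) F).1 * (e : Matrix (Fin d) (Fin d) F)
        = (((g : K) : GL (Fin d) F) : Matrix (Fin d) (Fin d) F) * e *
        ((((g : K) : GL (Fin d) F)⁻¹ : GL (Fin d) F) : Matrix (Fin d) (Fin d) F) *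
          ((g : K) : GL (Fin d) F).1 := by
          rw [mul_assoc, ← Units.val_mul, inv_mul_cancel, Units.val_one, mul_one]
      _ = _ := by rw [h3]
  -- representation of the kernel over E
  let ρ : n →* ((Fin d → F) ≃ₗ[E] (Fin d → F)) :=
    { toFun := fun g =>
        { toFun := fun v => ((g : K) : GL (Fin d) F).1 *ᵥ v
          map_add' := fun v w => mulVec_add _ v w
          map_smul' := fun e v => by
            change ((g : K) : GL (Fin d) F).1 *ᵥ ((e : Matrix (Fin d) (Fin d) F) *ᵥ v) =
              (e : Matrix (Fin d) (Fin d) F) *ᵥ (((g : K) : GL (Fin d) F).1 *ᵥ v)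
            rw [mulVec_mulVec, mulVec_mulVec, hcomm]
          invFun := fun v => (((g : K) : GL (Fin d) F)⁻¹ : GL (Fin d) F).1 *ᵥ v
          left_inv := fun v => by
            change (((g : K) : GL (Fin d) F)⁻¹ : GL (Fin d) F).1 *ᵥ
              (((g : K) : GL (Fin d) F).1 *ᵥ v) = v
            rw [mulVec_mulVec, ← Units.val_mul, inv_mul_cancel, Units.val_one, one_mulVec]
          right_inv := fun v => by
            change ((g : K) : GL (Fin d) F).1 *ᵥ
              ((((g : K) : GL (Fin d) F)⁻¹ : GL (Fin d) F).1 *ᵥ v) = v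
            rw [mulVec_mulVec, ← Units.val_mul, mul_inv_cancel, Units.val_one, one_mulVec] }
      map_one' := by
        apply LinearEquiv.ext; intro v
        change (1 : Matrix (Fin d) (Fin d) F) *ᵥ v = v
        rw [one_mulVec]
      map_mul' := fun g h => by
        apply LinearEquiv.ext; intro v
        change ((((g : K) : GL (Fin d) F) * ((h : K) : GL (Fin d) F) : GL (Fin d) F) :
            Matrix (Fin d) (Fin d) F) *ᵥ v =
          ((g : K) : GL (Fin d) F).1 *ᵥ (((h : K) : GL (Fin d) F).1 *ᵥ v)
        rw [mulVec_mulVec, Units.val_mul] }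
  have hρ : ∀ (g : n) (v : Fin d → F), ρ g v = ((g : K) : GL (Fin d) F).1 *ᵥ v := fun g v => rfl
  have hρinj : Function.Injective ρ := by
    intro g h hgh
    apply Subtype.ext; apply Subtype.ext; apply Units.ext
    apply Matrix.toLin'.injective
    apply LinearMap.ext; intro v
    rw [Matrix.toLin'_apply, Matrix.toLin'_apply]
    exact congrArg (fun T : (Fin d → F) ≃ₗ[E] (Fin d → F) => T v) hgh
  -- the algebra generated by E and the kernel
  let S : Set (Matrix (Fin d) (Fin d) F) :=
    (E : Set (Matrix (Fin d) (Fin d) F)) ∪ Set.range (fun g : n => ((g : K) : GL (Fin d) F).1)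
  let A : Subalgebra F (Matrix (Fin d) (Fin d) F) := Algebra.adjoin F S
  have hEA : ∀ e : E, (e : Matrix (Fin d) (Fin d) F) ∈ A := fun e =>
    Algebra.subset_adjoin (Or.inl e.2)
  have hnA : ∀ g : n, ((g : K) : GL (Fin d) F).1 ∈ A := fun g =>
    Algebra.subset_adjoin (Or.inr ⟨g, rfl⟩)
  have hA : NormAlg K A := by
    apply normAlg_adjoin
    intro h hh x hx
    rcases hx with hx | ⟨g, rfl⟩
    · exact Algebra.subset_adjoin (Or.inl (hKE h hh x hx))
    · have hnn : n.Normal := MonoidHom.normal_ker χ
      have h2 : (⟨h, hh⟩ * (g : K) * ⟨h, hh⟩⁻¹ : K) ∈ n := hnn.conj_mem g g.2 ⟨h, hh⟩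
      refine Algebra.subset_adjoin (Or.inr ⟨⟨_, h2⟩, ?_⟩)
      change ((h * ((g : K) : GL (Fin d) F) * h⁻¹ : GL (Fin d) F) : Matrix (Fin d) (Fin d) F) = _
      rw [Units.val_mul, Units.val_mul]
  have hss := semisimple_of_norm hirr hA
  obtain ⟨s, hs1, hs2, hs3⟩ := IsSemisimpleModule.exists_sSupIndep_sSup_simples_eq_top A (Fin d → F)
  -- E-subspaces from A-submodules
  let sm : SMul E A := ⟨fun e a => ⟨(e : Matrix (Fin d) (Fin d) F) * a, A.mul_mem (hEA e) a.2⟩⟩
  have htow : IsScalarTower E A (Fin d → F) := ⟨fun e a v => by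
    change ((e : Matrix (Fin d) (Fin d) F) * (a : Matrix (Fin d) (Fin d) F)) *ᵥ v =
      (e : Matrix (Fin d) (Fin d) F) *ᵥ ((a : Matrix (Fin d) (Fin d) F) *ᵥ v)
    rw [mulVec_mulVec]⟩
  have hfins : Finite s := by
    have : Finite (Submodule A (Fin d → F)) := inferInstance
    exact Subtype.finite
  have hnt : Nontrivial (Fin d → F) := inferInstance
  let W : s → Submodule E (Fin d → F) := fun j => (j : Submodule A (Fin d → F)).restrictScalars E
  have hind : iSupIndep W := by
    have h1 := (sSupIndep_iff _).mp hs1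
    intro i
    have h2 := h1 i
    rw [← Submodule.disjoint_restrictScalars_iff E] at h2
    simpa only [Submodule.restrictScalars_iSup] using h2
  have htop : iSup W = ⊤ := by
    have h1 := congrArg (Submodule.restrictScalars E) hs2
    rw [sSup_eq_iSup', Submodule.restrictScalars_iSup] at h1
    exact h1
  have hker : (clen n : ℝ) ≤ bd p m (f * b) := by
    refine reducible_aux (N := N) hp (Nat.mul_pos hf (by omega)) hcardE ρ hρinj W hind htop
      ?_ ?_ ?_ (fun m' h1 h2 => hcl m' h1 (lt_of_le_of_lt h2 hmd)) ?_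
    · intro j g v hv
      have h1 : (⟨_, hnA g⟩ : A) • v ∈ (j : Submodule A (Fin d → F)) := Submodule.smul_mem _ _ hv
      exact h1
    · intro j hj
      have h1 := (isSimpleModule_iff_isAtom.1 (hs3 j j.2)).1
      exact h1 ((Submodule.restrictScalars_eq_bot_iff _ _ _).1 hj)
    · intro j U hU hUinv
      -- `U` is an `A`-submodule
      have hUA : ∀ a ∈ A, ∀ v ∈ U, a *ᵥ v ∈ U := by
        intro a ha
        induction ha using Algebra.adjoin_induction with
        | mem x hx =>
          intro v hv
          rcases hx with hx | ⟨g, rfl⟩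
          · exact U.smul_mem (⟨x, hx⟩ : E) hv
          · exact hUinv g v hv
        | algebraMap r =>
          intro v hv
          have h1 : (algebraMap F (Matrix (Fin d) (Fin d) F) r) ∈ E := E.algebraMap_mem r
          exact U.smul_mem (⟨_, h1⟩ : E) hv
        | add x y _ _ hx hy =>
          intro v hv
          rw [add_mulVec]
          exact U.add_mem (hx v hv) (hy v hv)
        | mul x y _ _ hx hy =>
          intro v hv
          rw [← mulVec_mulVec]
          exact hx _ (hy v hv)
      let U' : Submodule A (Fin d → F) :=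
        { carrier := U
          add_mem' := fun {x y} hx hy => U.add_mem hx hy
          zero_mem' := U.zero_mem
          smul_mem' := fun a v hv => hUA a a.2 v hv }
      have hU' : U' ≤ (j : Submodule A (Fin d → F)) := fun v hv => hU hv
      have h1 := isSimpleModule_iff_isAtom.1 (hs3 j j.2)
      rcases h1.le_iff.1 hU' with h2 | h2
      · left
        rw [eq_bot_iff]
        intro v hv
        have h3 : v ∈ U' := hv
        rw [h2, Submodule.mem_bot] at h3
        exact h3
      · right
        apply le_antisymm hU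
        intro v hv
        have h3 : v ∈ (j : Submodule A (Fin d → F)) := hv
        rw [← h2] at h3
        exact h3
    · exact (Subgroup.card_le_card_group n).trans hN
  have htot : (clen K : ℝ) = clen n + clen χ.range := by
    rw [clen_range χ]; push_cast; rfl
  rw [htot]
  have h1 : (clen n : ℝ) + clen χ.range ≤ bd p m (f * b) + Real.logb 2 b := add_le_add hker hχc
  refine h1.trans (le_of_eq ?_)
  unfold bd
  have hf0 : (f : ℝ) ≠ 0 := by exact_mod_cast (by omega : f ≠ 0)
  have hb0 : (b : ℝ) ≠ 0 := by exact_mod_cast (by omega : b ≠ 0)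
  rw [← hmul]
  push_cast
  rw [Real.logb_mul hf0 hb0]
  ring

end

end Cfsg.Agent.H894
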