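import Cfsg.Agent.H894.Comp

/-!
# Composition length: imprimitive linear groups
-/

set_option autoImplicit false

namespace Cfsg.Agent.H894

open Cfsg Cfsg.Geo Matrix Cfsg.Agent.H893 Cfsg.Agent.H912

universe u v w

/-- The bound for the composition length of transitive permutation groups. -/
def PermBound : Prop :=
  ∀ (t : ℕ) (Q : Subgroup (Equiv.Perm (Fin t))), MulAction.IsPretransitive Q (Fin t) →
    3 * clen Q ≤ 4 * (t - 1)

/-- A permutation representation from an action permuting a family. -/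
theorem exists_permHom {G X : Type*} [Group G] {t : ℕ} (D : Fin t → X) (hD : Function.Injective D)
    (act : G → X → X) (hone : ∀ x, act 1 x = x) (hmul : ∀ g h x, act (g * h) x = act g (act h x))
    (h : ∀ g : G, ∃ σ : Equiv.Perm (Fin t), ∀ i, act g (D i) = D (σ i)) :
    ∃ φ : G →* Equiv.Perm (Fin t), ∀ g i, act g (D i) = D (φ g i) := by
  choose σ hσ using h
  refine ⟨{ toFun := σ, map_one' := ?_, map_mul' := fun g k => ?_ }, fun g i => hσ g i⟩
  · ext i
    have h1 := hσ 1 i
    rw [hone] at h1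
    rw [← hD h1]; rfl
  · ext i
    have h1 := hσ (g * k) i
    rw [hmul, hσ k, hσ g] at h1
    rw [← hD h1]; rfl

section rep

variable {F : Type u} [Field F] {V : Type v} [AddCommGroup V] [Module F V] {G : Type w} [Group G]

/-- The representation on an invariant subspace. -/
def resRep (ρ : G →* (V ≃ₗ[F] V)) (W : Submodule F V) (hW : ∀ g, ∀ v ∈ W, ρ g v ∈ W) :
    G →* (W ≃ₗ[F] W) where
  toFun g := LinearEquiv.ofLinearMap ((ρ g : V →ₗ[F] V).restrict (hW g))
    ((ρ g⁻¹ : V →ₗ[F] V).restrict (hW g⁻¹))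
    (by
      apply LinearMap.ext; intro v; apply Subtype.ext
      change ρ g (ρ g⁻¹ v) = v
      rw [← LinearEquiv.mul_apply, ← map_mul, mul_inv_cancel, map_one]; rfl)
    (by
      apply LinearMap.ext; intro v; apply Subtype.ext
      change ρ g⁻¹ (ρ g v) = v
      rw [← LinearEquiv.mul_apply, ← map_mul, inv_mul_cancel, map_one]; rfl)
  map_one' := by
    apply LinearEquiv.ext; intro v; apply Subtype.ext
    change ρ 1 (v : V) = v
    rw [map_one]; rfl
  map_mul' g h := by
    apply LinearEquiv.ext; intro v; apply Subtype.ext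
    change ρ (g * h) (v : V) = ρ g (ρ h v)
    rw [map_mul]; rfl

theorem resRep_coe (ρ : G →* (V ≃ₗ[F] V)) (W : Submodule F V) (hW : ∀ g, ∀ v ∈ W, ρ g v ∈ W)
    (g : G) (v : W) : ((resRep ρ W hW g v : W) : V) = ρ g v := rfl

/-- The image of a normal subgroup has smaller composition length. -/
theorem clen_map_le_of_normal {Q : Type*} [Group Q] [Finite G] (f : G →* Q) (N : Subgroup G)
    (hN : N.Normal) : clen (N.map f) ≤ clen f.range := by
  have hle : N.map f ≤ f.range := Subgroup.map_le_range f N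
  have hfin : Finite f.range := Finite.of_surjective _ f.rangeRestrict_surjective
  refine clen_le_of_le_of_normal (N.map f) f.range hle ?_
  rw [subgroupOf_normal_iff hle]
  rintro _ ⟨c, rfl⟩ _ ⟨b, hb, rfl⟩
  exact ⟨c * b * c⁻¹, hN.conj_mem b hb c, by simp⟩

end rep

/-- The natural representation of a linear group. -/
def natRep {F : Type u} [Field F] {d : ℕ} (K : Subgroup (GL (Fin d) F)) :
    K →* ((Fin d → F) ≃ₗ[F] (Fin d → F)) where
  toFun g := glLin (g : GL (Fin d) F)
  map_one' := by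
    apply LinearEquiv.ext; intro v
    rw [glLin_apply]
    change (1 : Matrix (Fin d) (Fin d) F) *ᵥ v = v
    rw [one_mulVec]
  map_mul' g h := by
    apply LinearEquiv.ext; intro v
    rw [LinearEquiv.mul_apply, glLin_apply, glLin_apply, glLin_apply, mulVec_mulVec]
    rfl

theorem natRep_apply {F : Type u} [Field F] {d : ℕ} (K : Subgroup (GL (Fin d) F)) (g : K)
    (v : Fin d → F) : natRep K g v = ((g : GL (Fin d) F) : Matrix (Fin d) (Fin d) F) *ᵥ v := glLin_apply _ _

theorem natRep_injective {F : Type u} [Field F] {d : ℕ} (K : Subgroup (GL (Fin d) F)) :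
    Function.Injective (natRep K) := by
  intro g h hgh
  apply Subtype.ext; apply Units.ext
  apply Matrix.toLin'.injective
  apply LinearMap.ext; intro v
  rw [Matrix.toLin'_apply, Matrix.toLin'_apply]
  have h1 := congrArg (fun T : (Fin d → F) ≃ₗ[F] (Fin d → F) => T v) hgh
  rw [← natRep_apply, ← natRep_apply]
  exact h1

section imprimitive

variable {F : Type u} [Field F] {V : Type v} [AddCommGroup V] [Module F V] {G : Type w} [Group G]

/-- Imprimitive case, for representations. -/
theorem imprimitive_aux [Finite G] (ρ : G →* (V ≃ₗ[F] V)) (hinj : Function.Injective ρ)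
    (hirr : RepIrr ρ) {t : ℕ} (ht : 2 ≤ t)
    (D : Fin t → Submodule F V) (hne : ∀ i, D i ≠ ⊥) (hind : iSupIndep D) (htop : iSup D = ⊤)
    (hperm : ∀ g : G, ∃ σ : Equiv.Perm (Fin t), ∀ i, (D i).map (ρ g : V →ₗ[F] V) = D (σ i))
    (hpb : PermBound) (c : ℕ)
    (hc : ∀ (i : Fin t) (H : Subgroup G) (τ : H →* (D i ≃ₗ[F] D i)), RepIrr τ →
      Nat.card τ.range ≤ Nat.card G → clen τ.range ≤ c) :
    3 * clen G ≤ 3 * (t * c) + 4 * (t - 1) := by
  classical
  have hDinj : Function.Injective D := by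
    intro i j hij
    by_contra hne'
    have h1 := hind.pairwiseDisjoint (i := i) (j := j) (by exact hne')
    have h2 : Disjoint (D i) (D j) := hind.pairwiseDisjoint hne'
    rw [← hij, disjoint_self] at h2
    exact hne i h2
  obtain ⟨φ, hφ⟩ := exists_permHom D hDinj
    (fun (g : G) (W : Submodule F V) => W.map (ρ g : V →ₗ[F] V))
    (fun W => by
      change W.map ((ρ 1 : V ≃ₗ[F] V) : V →ₗ[F] V) = W
      rw [map_one]; exact Submodule.map_id W)
    (fun g h W => by
      change W.map ((ρ (g * h) : V ≃ₗ[F] V) : V →ₗ[F] V) =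
        (W.map ((ρ h : V ≃ₗ[F] V) : V →ₗ[F] V)).map ((ρ g : V ≃ₗ[F] V) : V →ₗ[F] V)
      rw [map_mul, ← Submodule.map_comp]; rfl)
    hperm
  have hφ' : ∀ (g : G) (i : Fin t), (D i).map (ρ g : V →ₗ[F] V) = D (φ g i) := hφ
  -- invariant sums
  have hinv : ∀ W : Submodule F V, W ≠ ⊥ → (⨆ g : G, W.map (ρ g : V →ₗ[F] V)) = ⊤ := by
    intro W hW
    rcases hirr (⨆ g : G, W.map (ρ g : V →ₗ[F] V)) (by
      intro g v hv
      have h1 : ρ g v ∈ (⨆ g : G, W.map (ρ g : V →ₗ[F] V)).map (ρ g : V →ₗ[F] V) := ⟨v, hv, rfl⟩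
      rw [Submodule.map_iSup] at h1
      refine (iSup_le fun k => ?_ : (⨆ k : G, (W.map (ρ k : V →ₗ[F] V)).map (ρ g : V →ₗ[F] V)) ≤ _) h1
      rw [← Submodule.map_comp]
      have h2 : ((ρ g : V →ₗ[F] V) ∘ₗ (ρ k : V →ₗ[F] V)) = (ρ (g * k) : V →ₗ[F] V) := by
        rw [map_mul]; rfl
      rw [h2]
      exact le_iSup (fun g : G => W.map (ρ g : V →ₗ[F] V)) (g * k)) with h | h
    · exfalso
      apply hW
      rw [eq_bot_iff, ← h]
      refine le_trans ?_ (le_iSup (fun g : G => W.map (ρ g : V →ₗ[F] V)) 1)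
      intro v hv
      exact ⟨v, hv, by rw [map_one]; rfl⟩
    · exact h
  -- transitivity
  have htrans : MulAction.IsPretransitive φ.range (Fin t) := by
    refine ⟨fun i j => ?_⟩
    by_contra hcon
    push Not at hcon
    have h1 : ∀ g : G, φ g i ≠ j := fun g hg => hcon ⟨φ g, g, rfl⟩ hg
    have h2 := hinv (D i) (hne i)
    have h3 : (⊤ : Submodule F V) ≤ ⨆ (k : Fin t) (_ : k ≠ j), D k := by
      rw [← h2]
      refine iSup_le fun g => ?_
      rw [hφ']
      exact le_iSup₂ (f := fun (k : Fin t) (_ : k ≠ j) => D k) (φ g i) (h1 g)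
    have h4 := hind j
    rw [eq_top_iff.2 h3, disjoint_top] at h4
    exact hne j h4
  have h3c := hpb t φ.range htrans
  -- the stabilizer of a block
  let S : Fin t → Subgroup G := fun i => (MulAction.stabilizer (Equiv.Perm (Fin t)) i).comap φ
  have hS : ∀ i (g : S i), φ g i = i := fun i g => g.2
  have hSD : ∀ i (g : S i), ∀ v ∈ D i, (ρ.comp (S i).subtype) g v ∈ D i := by
    intro i g v hv
    have h1 : ρ g v ∈ (D i).map (ρ g : V →ₗ[F] V) := ⟨v, hv, rfl⟩
    rw [hφ', hS] at h1
    exact h1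
  let τ : ∀ i, S i →* (D i ≃ₗ[F] D i) := fun i => resRep (ρ.comp (S i).subtype) (D i) (hSD i)
  have hτirr : ∀ i, RepIrr (τ i) := by
    intro i W' hW'
    by_cases hW0 : W' = ⊥
    · exact Or.inl hW0
    right
    set W := W'.map (D i).subtype with hWdef
    have hWle : W ≤ D i := Submodule.map_subtype_le _ _
    have hWne : W ≠ ⊥ := by
      intro h
      apply hW0
      rw [eq_bot_iff]
      intro w hw
      have h1 : (w : V) ∈ W := ⟨w, hw, rfl⟩
      rw [h, Submodule.mem_bot] at h1
      rw [Submodule.mem_bot]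
      exact Subtype.ext h1
    have h1 := hinv W hWne
    have h2 : (⊤ : Submodule F V) ≤ W ⊔ ⨆ (k : Fin t) (_ : k ≠ i), D k := by
      rw [← h1]
      refine iSup_le fun g => ?_
      by_cases hg : φ g i = i
      · refine le_trans ?_ le_sup_left
        rintro _ ⟨_, ⟨w, hw, rfl⟩, rfl⟩
        exact ⟨τ i ⟨g, hg⟩ w, hW' ⟨g, hg⟩ w hw, rfl⟩
      · refine le_trans ?_ le_sup_right
        refine le_trans (Submodule.map_mono hWle) ?_
        rw [hφ']
        exact le_iSup₂ (f := fun (k : Fin t) (_ : k ≠ i) => D k) (φ g i) hg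
    have h3 : D i ≤ W := by
      have h4 : D i ⊓ (W ⊔ ⨆ (k : Fin t) (_ : k ≠ i), D k) = D i := by
        rw [eq_top_iff.2 h2, inf_top_eq]
      have h5 : (W ⊔ ⨆ (k : Fin t) (_ : k ≠ i), D k) ⊓ D i =
          W ⊔ ((⨆ (k : Fin t) (_ : k ≠ i), D k) ⊓ D i) := sup_inf_assoc_of_le _ hWle
      rw [inf_comm, h5] at h4
      have h6 : (⨆ (k : Fin t) (_ : k ≠ i), D k) ⊓ D i = ⊥ := by
        rw [inf_comm]; exact (hind i).eq_bot
      rw [h6, sup_bot_eq] at h4
      exact h4.ge
    rw [eq_top_iff]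
    intro w _
    obtain ⟨w', hw', hw''⟩ := h3 w.2
    have : w' = w := Subtype.ext hw''
    rwa [← this]
  have hτc : ∀ i, clen (τ i).range ≤ c := by
    intro i
    refine hc i (S i) (τ i) (hτirr i) ?_
    have h1 : Nat.card (τ i).range ≤ Nat.card (S i) :=
      Nat.card_le_card_of_surjective _ (τ i).rangeRestrict_surjective
    exact h1.trans (Subgroup.card_le_card_group _)
  -- the kernel
  have hkS : ∀ i, φ.ker ≤ S i := by
    intro i g hg
    change φ g i = i
    rw [(MonoidHom.mem_ker).1 hg]; rfl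
  let κ : ∀ i, φ.ker →* (D i ≃ₗ[F] D i) := fun i => (τ i).comp (Subgroup.inclusion (hkS i))
  have hκ : ∀ i, clen (κ i).range ≤ c := by
    intro i
    have h1 : (κ i).range = ((φ.ker).subgroupOf (S i)).map (τ i) := by
      ext x
      constructor
      · rintro ⟨g, rfl⟩
        exact ⟨Subgroup.inclusion (hkS i) g, g.2, rfl⟩
      · rintro ⟨g, hg, rfl⟩
        exact ⟨⟨g, hg⟩, rfl⟩
    rw [h1]
    refine (clen_map_le_of_normal (τ i) _ ?_).trans (hτc i)
    exact Subgroup.Normal.subgroupOf (MonoidHom.normal_ker φ) _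
  have hker : clen φ.ker ≤ t * c := by
    have h1 := clen_le_sum (G := φ.ker) (Finset.univ : Finset (Fin t)) κ (by
      intro g hg
      apply Subtype.ext
      apply hinj
      rw [Subgroup.coe_one, map_one]
      apply LinearEquiv.ext
      intro v
      have hv : v ∈ iSup D := by rw [htop]; trivial
      induction hv using Submodule.iSup_induction' with
      | mem i x hx =>
        have h2 := congrArg (fun T : D i ≃ₗ[F] D i => ((T ⟨x, hx⟩ : D i) : V)) (hg i (Finset.mem_univ i))
        exact h2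
      | zero => rw [map_zero, map_zero]
      | add x y _ _ hx hy => rw [map_add, map_add, hx, hy])
    refine h1.trans ?_
    calc ∑ i : Fin t, clen (κ i).range ≤ ∑ _i : Fin t, c := Finset.sum_le_sum fun i _ => hκ i
      _ = t * c := by rw [Finset.sum_const, Finset.card_univ, Fintype.card_fin, smul_eq_mul]
  rw [clen_range φ]
  omega

end imprimitive

end Cfsg.Agent.H894
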