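import Cfsg.Agent.H894.CompWr

/-!
# Composition length: the tensor wreath case
-/

set_option autoImplicit false

namespace Cfsg.Agent.H894

open Cfsg Cfsg.Geo Matrix Cfsg.Agent.H893 Cfsg.Agent.H912
open scoped Kronecker

universe u v w

section

variable {F : Type u} [Field F] {d m t : ℕ}

/-- The `i`-th slot of a tensor power frame as an algebra homomorphism. -/
def slotAlg (e : Fin d ≃ (Fin t → Fin m)) (P : GL (Fin d) F) (i : Fin t) :
    Matrix (Fin m) (Fin m) F →ₐ[F] Matrix (Fin d) (Fin d) F :=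
  ((conjAlg P : Matrix (Fin d) (Fin d) F ≃ₐ[F] Matrix (Fin d) (Fin d) F) :
      Matrix (Fin d) (Fin d) F →ₐ[F] Matrix (Fin d) (Fin d) F).comp
    (((Matrix.reindexAlgEquiv F F e.symm : _ ≃ₐ[F] Matrix (Fin d) (Fin d) F) :
      _ →ₐ[F] Matrix (Fin d) (Fin d) F).comp (Cfsg.Agent.H919.slotEmb i))

theorem slotAlg_apply (e : Fin d ≃ (Fin t → Fin m)) (P : GL (Fin d) F) (i : Fin t)
    (x : Matrix (Fin m) (Fin m) F) :
    slotAlg e P i x = Cfsg.Agent.H919.frameMat e P (Cfsg.Agent.H919.slotMat i x) := rfl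

theorem slotAlg_injective (e : Fin d ≃ (Fin t → Fin m)) (P : GL (Fin d) F) (hm : 0 < m)
    (i : Fin t) : Function.Injective (slotAlg e P i) := by
  intro x y h
  rw [slotAlg_apply, slotAlg_apply] at h
  have h1 := Cfsg.Agent.H919.frameMat_injective e P h
  exact Cfsg.Agent.H919.slotEmb_injective hm i h1

theorem scalar_of_slotAlg (e : Fin d ≃ (Fin t → Fin m)) (P : GL (Fin d) F)
    (k : GL (Fin d) F) (hk : ∀ i x, cjH F d k (slotAlg e P i x) = slotAlg e P i x) :
    k ∈ scalars (Fin d) F := by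
  set g := (Cfsg.Agent.H919.frameGL e P).symm k with hg
  have hgk : Cfsg.Agent.H919.frameGL e P g = k := by rw [hg, MulEquiv.apply_symm_apply]
  have h1 : ∀ i x, (g : Matrix (Fin t → Fin m) (Fin t → Fin m) F) * Cfsg.Agent.H919.slotMat i x =
      Cfsg.Agent.H919.slotMat i x * (g : Matrix (Fin t → Fin m) (Fin t → Fin m) F) := by
    intro i x
    apply Cfsg.Agent.H919.frameMat_injective e P
    rw [Cfsg.Agent.H919.frameMat_mul, Cfsg.Agent.H919.frameMat_mul, ← Cfsg.Agent.H919.frameGL_val,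
      hgk, ← slotAlg_apply]
    exact (cjH_eq_iff k _ _).1 (hk i x)
  obtain ⟨c, hc⟩ := Cfsg.Agent.H919.scalar_of_commute_slots h1
  apply mem_scalars_of_cjH
  intro x
  rw [cjH_eq_iff, ← hgk, Cfsg.Agent.H919.frameGL_val, hc]
  have h2 : Cfsg.Agent.H919.frameMat e P (c • (1 : Matrix (Fin t → Fin m) (Fin t → Fin m) F)) =
      c • (1 : Matrix (Fin d) (Fin d) F) := by
    unfold Cfsg.Agent.H919.frameMat
    rw [map_smul, map_one, mul_smul_comm, mul_one, smul_mul_assoc, ← Units.val_mul,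
      mul_inv_cancel, Units.val_one]
  rw [h2]
  simp

theorem Gi_mono {ψ : Fin t → (Matrix (Fin m) (Fin m) F →ₐ[F] Matrix (Fin d) (Fin d) F)}
    {B S : Subgroup (GL (Fin d) F)} (h : B ≤ S) (i : Fin t) : Gi ψ B i ≤ Gi ψ S i := by
  rintro a ⟨k, hk, hk'⟩
  exact ⟨k, h hk, hk'⟩

theorem clen_Gi_le [Finite F] {ψ : Fin t → (Matrix (Fin m) (Fin m) F →ₐ[F] Matrix (Fin d) (Fin d) F)}
    {B S : Subgroup (GL (Fin d) F)} (h : B ≤ S) (hn : ∀ s ∈ S, ∀ b ∈ B, s * b * s⁻¹ ∈ B)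
    (i : Fin t) : clen (Gi ψ B i) ≤ clen (Gi ψ S i) := by
  refine clen_le_of_le_of_normal _ _ (Gi_mono h i) ?_
  rw [subgroupOf_normal_iff (Gi_mono h i)]
  rintro c ⟨k, hk, hk'⟩ b ⟨l, hl, hl'⟩
  refine ⟨k * l * k⁻¹, hn k hk l hl, fun x => ?_⟩
  obtain ⟨k', hk1, hk2⟩ := (Gi ψ S i).inv_mem (x := c) ⟨k, hk, hk'⟩
  have h1 : ∀ y, cjH F d k⁻¹ (ψ i y) = ψ i (cjH F m c⁻¹ y) := by
    intro y
    have h2 := hk' (cjH F m c⁻¹ y)
    rw [← cjH_mul c, mul_inv_cancel, cjH_one] at h2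
    rw [← h2, ← cjH_mul, inv_mul_cancel, cjH_one]
  rw [cjH_mul, cjH_mul, h1, hl', hk', cjH_mul, cjH_mul]

theorem wreath_aux [Finite F] {H : Subgroup (GL (Fin d) F)} {e : Fin d ≃ (Fin t → Fin m)}
    {P : GL (Fin d) F} {E : Fin t → Subgroup (GL (Fin d) F)} (hd : 0 < d)
    (hW : Cfsg.Agent.H919.WreathData H m t e P E) (hpb : PermBound) (c : ℕ)
    (hc : ∀ L : Subgroup (GL (Fin m) F), ActsIrreducibly (matrixSet L) → clen L ≤ c) :
    3 * clen H ≤ 3 * (t * c) + 4 * (t - 1) := by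
  classical
  have hm := hW.two_le_m
  have ht := hW.two_le_t
  have hEinj : Function.Injective E := by
    intro i j hij
    by_contra hne
    have h1 : ∀ x ∈ E i, ∀ y ∈ E i, x * y = y * x := fun x hx y hy =>
      hW.comm i j hne x hx y (hij ▸ hy)
    have h2 : ⁅E i, E i⁆ = ⊥ := by
      rw [Subgroup.commutator_eq_bot_iff_le_centralizer]
      intro x hx
      rw [Subgroup.mem_centralizer_iff]
      intro y hy
      exact h1 y hy x hx
    rw [hW.perfect i] at h2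
    apply hW.not_scalar i
    rw [h2]; exact bot_le
  obtain ⟨φ, hφ⟩ := exists_permHom (G := H) E hEinj
    (fun (g : H) (K : Subgroup (GL (Fin d) F)) => K.map (MulAut.conj (g : GL (Fin d) F)).toMonoidHom)
    (fun K => by
      ext x
      constructor
      · rintro ⟨y, hy, rfl⟩
        simpa using hy
      · intro hx
        exact ⟨x, hx, by simp⟩)
    (fun g h K => by
      ext x
      constructor
      · rintro ⟨y, hy, rfl⟩
        refine ⟨_, ⟨y, hy, rfl⟩, ?_⟩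
        simp [mul_assoc]
      · rintro ⟨_, ⟨y, hy, rfl⟩, rfl⟩
        refine ⟨y, hy, ?_⟩
        simp [mul_assoc])
    (fun g => hW.permuted g g.2)
  have hφ' : ∀ (g : H) (i : Fin t),
      (E i).map (MulAut.conj (g : GL (Fin d) F)).toMonoidHom = E (φ g i) := hφ
  have htrans : MulAction.IsPretransitive φ.range (Fin t) := by
    refine ⟨fun i j => ?_⟩
    obtain ⟨h, hh, hij⟩ := hW.transitive i j
    refine ⟨⟨φ ⟨h, hh⟩, ⟨h, hh⟩, rfl⟩, ?_⟩
    change φ ⟨h, hh⟩ i = j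
    apply hEinj
    rw [← hφ', ← hij]
  have h3c := hpb t φ.range htrans
  let ψ := slotAlg (F := F) e P
  let B : Subgroup (GL (Fin d) F) := φ.ker.map H.subtype
  let S : Fin t → Subgroup (GL (Fin d) F) := fun i =>
    ((MulAction.stabilizer (Equiv.Perm (Fin t)) i).comap φ).map H.subtype
  have hBS : ∀ i, B ≤ S i := by
    rintro i _ ⟨g, hg, rfl⟩
    refine ⟨g, ?_, rfl⟩
    change φ g i = i
    rw [(MonoidHom.mem_ker).1 hg]; rfl
  have hnorm : ∀ i, ∀ s ∈ S i, ∀ b ∈ B, s * b * s⁻¹ ∈ B := by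
    rintro i _ ⟨s, hs, rfl⟩ _ ⟨b, hb, rfl⟩
    exact ⟨s * b * s⁻¹, (MonoidHom.normal_ker φ).conj_mem b hb s, by simp⟩
  -- conjugation of the enveloping algebras
  have hconj : ∀ i, ∀ s ∈ S i, ∀ x, ∃ y, cjH F d s (ψ i x) = ψ i y := by
    rintro i _ ⟨s, hs, rfl⟩ x
    have hs' : φ s i = i := hs
    have h1 : ψ i x ∈ Algebra.adjoin F (matrixSet (E i)) := (hW.env_iff i _).2 ⟨x, rfl⟩
    have h2 : cjH F d s (ψ i x) ∈
        (Algebra.adjoin F (matrixSet (E i))).map
          ((cjH F d s : Matrix (Fin d) (Fin d) F ≃ₐ[F] Matrix (Fin d) (Fin d) F) :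
            Matrix (Fin d) (Fin d) F →ₐ[F] Matrix (Fin d) (Fin d) F) := ⟨_, h1, rfl⟩
    rw [AlgHom.map_adjoin] at h2
    have h3 : Algebra.adjoin F (((cjH F d s : Matrix (Fin d) (Fin d) F ≃ₐ[F] Matrix (Fin d) (Fin d) F) :
            Matrix (Fin d) (Fin d) F →ₐ[F] Matrix (Fin d) (Fin d) F) '' (matrixSet (E i))) ≤
          Algebra.adjoin F (matrixSet (E i)) := by
      apply Algebra.adjoin_mono
      rintro _ ⟨_, ⟨g, hg, rfl⟩, rfl⟩
      have h4 : (s : GL (Fin d) F) * g * (s : GL (Fin d) F)⁻¹ ∈ E (φ s i) := by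
        rw [← hφ']
        exact ⟨g, hg, by simp⟩
      rw [hs'] at h4
      refine ⟨_, h4, ?_⟩
      change ((s * g * (s : GL (Fin d) F)⁻¹ : GL (Fin d) F) : Matrix (Fin d) (Fin d) F) = cjH F d s g
      rw [cjH_apply, Units.val_mul, Units.val_mul]
    obtain ⟨y, hy⟩ := (hW.env_iff i _).1 (h3 h2)
    exact ⟨y, hy⟩
  have hker : clen B ≤ ∑ i, clen (Gi ψ B i) :=
    wreath_ker_aux (by omega) hd (by omega) ψ (slotAlg_injective e P (by omega))
      (fun k hk => scalar_of_slotAlg e P k hk) B (fun k hk i x => hconj i k (hBS i hk) x)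
  -- irreducibility
  have hirr : ∀ i, ActsIrreducibly (matrixSet (Gi ψ (S i) i)) := by
    intro i
    apply (Cfsg.Agent.H919.absIrr_of_adjoin_eq_top _).1
    rw [eq_top_iff]
    intro X _
    have h1 : ψ i X ∈ Algebra.adjoin F (matrixSet (E i)) := (hW.env_iff i _).2 ⟨X, rfl⟩
    have h2 : Algebra.adjoin F (matrixSet (E i)) ≤
        (Algebra.adjoin F (matrixSet (Gi ψ (S i) i))).map (ψ i) := by
      rw [Algebra.adjoin_le_iff]
      rintro _ ⟨g, hg, rfl⟩
      have hgE : ∀ g ∈ E i, ∃ y, (g : Matrix (Fin d) (Fin d) F) = ψ i y := fun g hg =>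
        (hW.env_iff i _).1 (Cfsg.Agent.H919.mem_adjoin hg)
      obtain ⟨y, hy⟩ := hgE g hg
      obtain ⟨y', hy'⟩ := hgE g⁻¹ ((E i).inv_mem hg)
      have h3 : y * y' = 1 := by
        apply slotAlg_injective e P (by omega) i
        change ψ i (y * y') = ψ i 1
        rw [map_mul, map_one, ← hy, ← hy', ← Units.val_mul, mul_inv_cancel, Units.val_one]
      have h4 : y' * y = 1 := by
        apply slotAlg_injective e P (by omega) i
        change ψ i (y' * y) = ψ i 1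
        rw [map_mul, map_one, ← hy, ← hy', ← Units.val_mul, inv_mul_cancel, Units.val_one]
      let a : GL (Fin m) F := ⟨y, y', h3, h4⟩
      refine ⟨y, Algebra.subset_adjoin ⟨a, ?_, rfl⟩, hy.symm⟩
      refine ⟨g, ⟨⟨g, hW.le i hg⟩, ?_, rfl⟩, fun x => ?_⟩
      · change φ ⟨g, hW.le i hg⟩ i = i
        apply hEinj
        rw [← hφ']
        ext z
        constructor
        · rintro ⟨w, hw, rfl⟩
          exact (E i).mul_mem ((E i).mul_mem hg hw) ((E i).inv_mem hg)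
        · intro hz
          refine ⟨g⁻¹ * z * g, (E i).mul_mem ((E i).mul_mem ((E i).inv_mem hg) hz) hg, ?_⟩
          simp [mul_assoc]
      · rw [cjH_apply, cjH_apply, hy, hy', ← map_mul, ← map_mul]
        rfl
    obtain ⟨X', hX', hXX'⟩ := h2 h1
    have : X' = X := slotAlg_injective e P (by omega) i hXX'
    rwa [← this]
  have hsum : ∑ i, clen (Gi ψ B i) ≤ t * c := by
    calc ∑ i, clen (Gi ψ B i) ≤ ∑ _i : Fin t, c :=
          Finset.sum_le_sum fun i _ => (clen_Gi_le (hBS i) (hnorm i) i).trans (hc _ (hirr i))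
      _ = t * c := by rw [Finset.sum_const, Finset.card_univ, Fintype.card_fin, smul_eq_mul]
  have hBk : clen φ.ker = clen B :=
    clen_congr (φ.ker.equivMapOfInjective H.subtype (Subgroup.subtype_injective H))
  rw [clen_range φ, hBk]
  omega

end

end Cfsg.Agent.H894
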