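import Cfsg.Agent.H894.CompNum3
import Cfsg.Agent.H894.CompSimp
import Cfsg.Agent.H894.CompWr2

/-!
# Composition length of irreducible linear groups: assembly
-/

set_option autoImplicit false

namespace Cfsg.Agent.H894

open Cfsg Cfsg.Geo Matrix Cfsg.Agent.H893 Cfsg.Agent.H912

universe u v w

theorem zb_of_card {F : Type u} [Field F] [Fintype F] {p f : ℕ} (hp : p.Prime) (hf : 1 ≤ f)
    (hF : Fintype.card F = p ^ f) : ZB p f (clen Fˣ) where
  prime := hp
  one_le := hf
  two := by
    have h1 : Nat.card Fˣ = p ^ f - 1 := by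
      rw [Nat.card_units, Nat.card_eq_fintype_card, hF]
    rw [← h1]
    exact two_pow_clen_le
  three := by
    intro h2
    subst h2
    have h1 : Nat.card Fˣ = 2 ^ f - 1 := by
      rw [Nat.card_units, Nat.card_eq_fintype_card, hF]
    have h3 := clen_le_cardFactors (G := Fˣ)
    rw [h1] at h3
    have h4 : Odd (2 ^ f - 1) := by
      have : Even (2 ^ f) := (Nat.even_pow.2 ⟨even_two, by omega⟩)
      have h5 : 1 ≤ 2 ^ f := Nat.one_le_two_pow
      exact Nat.Even.sub_odd h5 this odd_one
    exact (Nat.pow_le_pow_right (by norm_num) h3).trans (three_pow_cardFactors_le _ h4)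

theorem repIrr_natRep {F : Type u} [Field F] {d : ℕ} {K : Subgroup (GL (Fin d) F)}
    (hirr : ActsIrreducibly (matrixSet K)) : RepIrr (natRep K) := by
  intro W hW
  apply hirr
  rintro _ ⟨g, hg, rfl⟩
  rintro _ ⟨v, hv, rfl⟩
  rw [Matrix.toLin'_apply]
  have := hW ⟨g, hg⟩ v hv
  rwa [natRep_apply] at this

theorem dim_one {F : Type u} [Field F] [Fintype F] {p f : ℕ} (hp : p.Prime) (hf : 1 ≤ f)
    (hF : Fintype.card F = p ^ f) (K : Subgroup (GL (Fin 1) F)) : (clen K : ℝ) ≤ bd p 1 f := by
  have h1 : clen K ≤ clen Fˣ := by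
    have h2 : K ≤ scalars (Fin 1) F := by
      intro g _
      rw [mem_scalars_iff]
      have hdet : ((g : Matrix (Fin 1) (Fin 1) F) 0 0) ≠ 0 := by
        intro h0
        have h3 := (Matrix.isUnit_iff_isUnit_det _).1 g.isUnit
        rw [Matrix.det_fin_one, h0] at h3
        exact not_isUnit_zero h3
      refine ⟨Units.mk0 _ hdet, ?_⟩
      ext i j
      fin_cases i; fin_cases j
      simp
    rw [← clen_scalars (F := F) (n := 1) one_pos]
    have hn : (K.subgroupOf (scalars (Fin 1) F)).Normal := by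
      constructor
      intro n hn g
      have hc := comm_scalars (F := F) (d := 1)
      rw [hc.is_comm.comm g n, mul_assoc, mul_inv_cancel, mul_one]
      exact hn
    exact clen_le_of_le_of_normal _ _ h2 hn
  refine le_trans (by exact_mod_cast h1) (zb_of_card hp hf hF).num_cyc

theorem bd_nonneg {p f z m : ℕ} (h : ZB p f z) (hm : 1 ≤ m) : 0 ≤ bd p m f := by
  have h1 := h.num_cyc
  have h2 := one_le_logb_prime h.prime
  have h3 : (0 : ℝ) ≤ z := Nat.cast_nonneg z
  have h4 : (1 : ℝ) ≤ m := by exact_mod_cast hm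
  have h5 : (0 : ℝ) ≤ f := Nat.cast_nonneg f
  unfold bd at h1 ⊢
  have h6 : (8 / 3 * Real.logb 2 p - 1) * ((1 : ℕ) : ℝ) * f ≤
      (8 / 3 * Real.logb 2 p - 1) * m * f := by
    apply mul_le_mul_of_nonneg_right _ h5
    apply mul_le_mul_of_nonneg_left
    · exact_mod_cast hm
    · linarith
  linarith

theorem scalar_of_tens_one {F : Type u} [Field F] {d n₂ : ℕ} {e : Fin d ≃ Fin 1 × Fin n₂}
    {P : GL (Fin d) F} {a : Matrix (Fin 1) (Fin 1) F} :
    tens e P a (1 : Matrix (Fin n₂) (Fin n₂) F) = (a 0 0) • (1 : Matrix (Fin d) (Fin d) F) := by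
  have h1 : a = (a 0 0) • (1 : Matrix (Fin 1) (Fin 1) F) := by
    ext i j; fin_cases i; fin_cases j; simp
  rw [← tens_one e P]
  conv_lhs => rw [h1]
  unfold tens
  rw [Matrix.smul_kronecker, map_smul, mul_smul_comm, smul_mul_assoc]

theorem exists_tens_of_one {F : Type u} [Field F] {d n₁ : ℕ} (e : Fin d ≃ Fin n₁ × Fin 1)
    (P : GL (Fin d) F) (X : Matrix (Fin d) (Fin d) F) :
    ∃ a : Matrix (Fin n₁) (Fin n₁) F, X = tens e P a (1 : Matrix (Fin 1) (Fin 1) F) := by
  let Y : Matrix (Fin n₁ × Fin 1) (Fin n₁ × Fin 1) F := Matrix.reindexAlgEquiv F F e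
    (((P⁻¹ : GL (Fin d) F) : Matrix (Fin d) (Fin d) F) * X * (P : Matrix (Fin d) (Fin d) F))
  refine ⟨fun i k => Y (i, 0) (k, 0), ?_⟩
  unfold tens
  have h1 : Matrix.kroneckerMap (· * ·) (fun i k => Y (i, 0) (k, 0)) (1 : Matrix (Fin 1) (Fin 1) F) = Y := by
    ext ⟨i, i'⟩ ⟨k, k'⟩
    fin_cases i'; fin_cases k'
    change Y (i, 0) (k, 0) * (1 : Matrix (Fin 1) (Fin 1) F) 0 0 = Y (i, 0) (k, 0)
    rw [Matrix.one_apply_eq, mul_one]
  have h2 : Matrix.reindexAlgEquiv F F e.symm Y =
      ((P⁻¹ : GL (Fin d) F) : Matrix (Fin d) (Fin d) F) * X * (P : Matrix (Fin d) (Fin d) F) := by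
    ext i j
    simp [Y]
  change X = (P : Matrix (Fin d) (Fin d) F) * Matrix.reindexAlgEquiv F F e.symm
    (Matrix.kroneckerMap (· * ·) (fun i k => Y (i, 0) (k, 0)) (1 : Matrix (Fin 1) (Fin 1) F)) *
      ((P⁻¹ : GL (Fin d) F) : Matrix (Fin d) (Fin d) F)
  rw [h1, h2]
  have e2 : (P : Matrix (Fin d) (Fin d) F) * ((P⁻¹ : GL (Fin d) F) : Matrix (Fin d) (Fin d) F) = 1 := by
    rw [← Units.val_mul, mul_inv_cancel, Units.val_one]
  calc X = ((P : Matrix (Fin d) (Fin d) F) * ((P⁻¹ : GL (Fin d) F) : Matrix (Fin d) (Fin d) F)) * X *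
        ((P : Matrix (Fin d) (Fin d) F) * ((P⁻¹ : GL (Fin d) F) : Matrix (Fin d) (Fin d) F)) := by
        rw [e2, one_mul, mul_one]
    _ = _ := by simp only [mul_assoc]

/-- The step: the claim for `K` of order `N` from the claims for smaller data. -/
theorem step {F : Type u} [Field F] [Fintype F] {p f d : ℕ} (hpb : PermBound) (hout : OutBound.{u})
    (hp : p.Prime) (hf : 1 ≤ f) (hF : Fintype.card F = p ^ f) (hd : 2 ≤ d)
    (K : Subgroup (GL (Fin d) F)) (hirr : ActsIrreducibly (matrixSet K))
    (hcl1 : ∀ m, 1 ≤ m → m < d → ∀ M, Claim.{u} m M)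
    (hcl2 : ∀ M, M < Nat.card K → Claim.{u} d M) : (clen K : ℝ) ≤ bd p d f := by
  classical
  have hne : Nonempty (Fin d) := ⟨⟨0, by omega⟩⟩
  have hzb := zb_of_card hp hf hF
  -- the claim for smaller dimensions, for groups
  have hsmall : ∀ m, 1 ≤ m → m < d → ∀ L : Subgroup (GL (Fin m) F),
      ActsIrreducibly (matrixSet L) → (clen L : ℝ) ≤ bd p m f := fun m h1 h2 L hL =>
    hcl1 m h1 h2 (Nat.card L) F p f hp hf hF L hL le_rfl
  by_cases hspan : ∀ N : Subgroup (GL (Fin d) F), N ≤ K → (∀ h ∈ K, ∀ x ∈ N, h * x * h⁻¹ ∈ N) →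
      N ≤ scalars (Fin d) F ∨ ActsAbsolutelyIrreducibly (matrixSet N)
  · rcases Cfsg.Agent.H919.C_split K hirr (by rw [Fintype.card_fin]; exact hd) hspan with
      ⟨N, hNK, hN, hNs, hNc⟩ | ⟨m, t, e, P, E, hW⟩ | ⟨P, hcore⟩
    · -- symplectic type
      obtain ⟨r, m, c, hr, hm, hdr, hrd, hc, hle, hc4⟩ :=
        symp_aux hd hspan hNK hN hNs hNc hcl1 hcl2
      rw [hF] at hrd
      refine le_trans (by exact_mod_cast hle) (hzb.num_symp hr hm hdr hrd hc hc4)
    · -- tensor wreath
      have hm := hW.two_le_m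
      have ht := hW.two_le_t
      have hdm : d = m ^ t := by
        have := Fintype.card_congr e
        rwa [Fintype.card_fin, Fintype.card_fun, Fintype.card_fin, Fintype.card_fin] at this
      have hmd : m < d := by
        rw [hdm]
        calc m = m ^ 1 := (pow_one m).symm
          _ < m ^ t := Nat.pow_lt_pow_right (by omega) (by omega)
      have h0 : 0 ≤ bd p m f := bd_nonneg hzb (by omega)
      have hx := wreath_aux (by omega) hW hpb ⌊bd p m f⌋₊ (fun L hL => by
        exact Nat.le_floor (hsmall m (by omega) hmd L hL))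
      exact num_blocks hp (by omega) (by rw [hdm]; exact le_pow_of_two_le (by omega) hm) h0 hx
    · -- almost simple
      obtain ⟨a, b, M, hle, ha, hcard, hM, hb⟩ := simple_aux hd hcore hout
      refine le_trans (by exact_mod_cast hle) (hzb.num_simple hd ha ?_ ?_ hb)
      · refine hcard.trans ?_
        rw [← hF, ← Matrix.card_GL_field]
        exact Subgroup.card_le_card_group _
      · rw [← hF]; exact hM
  · push Not at hspan
    obtain ⟨N, hNK, hN, hNs, hNa⟩ := hspan
    have hA : NormAlg K (env N) := NormGrp.normAlg hN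
    have hss := semisimple_of_norm hirr hA
    by_cases hiso : IsIsotypic (env N) (Fin d → F)
    · have hsimp := isSimpleRing_of_isotypic hss hiso
      have hcf := cen_field hsimp
      by_cases hb : 2 ≤ Module.finrank F (cen (env N))
      · exact field_aux hp hf hF (by omega) K hirr le_rfl hcf hb hA.cen
          (fun m h1 h2 => hcl1 m h1 h2 _)
      · have hcb : cen (env N) = ⊥ := by
          have h1 := finrank_pos_fieldSub hcf
          rw [← Subalgebra.finrank_eq_one_iff]
          omega
        obtain ⟨n₁, n₂, e, P, h1, h2, hnn, hmem⟩ := exists_tens hsimp hcb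
        rw [Fintype.card_fin] at hnn
        have hle := le_tensorProductSubgroup h1 h2 hmem hA
        have hn1 : n₁ ≠ 1 := by
          rintro rfl
          apply hNs
          intro x hx
          obtain ⟨a, ha⟩ := (hmem _).1 (mem_env hx)
          rw [scalar_of_tens_one] at ha
          rw [mem_scalars_iff]
          have ha0 : a 0 0 ≠ 0 := by
            intro h0
            rw [h0, zero_smul] at ha
            exact x.ne_zero ha
          exact ⟨Units.mk0 _ ha0, ha⟩
        have hn2 : n₂ ≠ 1 := by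
          rintro rfl
          apply hNa
          apply Cfsg.Agent.H919.absIrr_of_adjoin_eq_top
          rw [eq_top_iff]
          intro X _
          exact (hmem X).2 (exists_tens_of_one e P X)
        obtain ⟨L₁, L₂, hL₁, hL₂, hKL⟩ := tensor_aux hirr e P h1 h2 hle
        have hb1 := hsmall n₁ (by omega) (by nlinarith [Nat.lt_of_le_of_ne h1 (Ne.symm hn1), Nat.lt_of_le_of_ne h2 (Ne.symm hn2)]) L₁ hL₁
        have hb2 := hsmall n₂ (by omega) (by nlinarith [Nat.lt_of_le_of_ne h1 (Ne.symm hn1), Nat.lt_of_le_of_ne h2 (Ne.symm hn2)]) L₂ hL₂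
        have h3 := num_tensor (f := f) hp (n₁ := n₁) (n₂ := n₂) (by omega) (by omega)
        rw [hnn] at h3
        have h4 : (clen K : ℝ) ≤ clen L₁ + clen L₂ := by exact_mod_cast hKL
        linarith
    · obtain ⟨t, m, D, hDinj, hDr, hdec, hstab⟩ := clifford_decomposition hirr hA hiso
      have ht := hdec.two_le
      have hm := hdec.pos
      have htm : t * m = d := by
        have h1 := sum_finrank_eq _ hdec.indep hdec.iSup_eq_top
        rw [Module.finrank_fin_fun, Finset.sum_congr rfl (fun i _ => hdec.finrank_eq i)] at h1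
        simpa using h1
      have hmd : m < d := by nlinarith
      have h0 : 0 ≤ bd p m f := bd_nonneg hzb (by omega)
      have hx := imprimitive_aux (natRep K) (natRep_injective K) (repIrr_natRep hirr) ht
        (fun i => (D i).restrictScalars F) ?_ hdec.indep hdec.iSup_eq_top ?_ hpb ⌊bd p m f⌋₊ ?_
      · exact num_blocks hp (by omega) htm.le h0 hx
      · intro i hi
        have h1 := hdec.finrank_eq i
        rw [hi, finrank_bot] at h1
        omega
      · intro g
        obtain ⟨σ, hσ⟩ := hstab g.2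
        refine ⟨σ, fun i => ?_⟩
        refine Eq.trans ?_ (hσ i)
        congr 1
      · intro i H τ hτ hcard
        apply Nat.le_floor
        exact clen_range_le_bd (hcl1 m hm hmd (Nat.card K)) hp hf hF (hdec.finrank_eq i) τ hτ hcard

/-- **The composition length of an irreducible linear group**, as a claim for all dimensions. -/
theorem claim_all (hpb : PermBound) (hout : OutBound.{u}) (d : ℕ) (hd : 1 ≤ d) :
    ∀ N, Claim.{u} d N := by
  induction d using Nat.strong_induction_on with
  | _ d ihd =>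
    intro N
    induction N using Nat.strong_induction_on with
    | _ N ihN =>
      intro F _ _ p f hp hf hF K hirr hN
      rcases Nat.lt_or_ge d 2 with h2 | h2
      · have : d = 1 := by omega
        subst this
        exact dim_one hp hf hF K
      · exact step hpb hout hp hf hF h2 K hirr (fun m h3 h4 M => ihd m h4 h3 M)
          (fun M hM => ihN M (lt_of_lt_of_le hM hN))

/-- **The composition length of an irreducible linear group.** -/
theorem clen_irreducible_le (hpb : PermBound) (hout : OutBound.{u}) {F : Type u} [Field F]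
    [Fintype F] {p f d : ℕ} (hp : p.Prime) (hf : 1 ≤ f) (hF : Fintype.card F = p ^ f)
    (hd : 1 ≤ d) (K : Subgroup (GL (Fin d) F)) (hirr : ActsIrreducibly (matrixSet K)) :
    (clen K : ℝ) ≤ (8 / 3 * Real.logb 2 p - 1) * d * f - Real.logb 2 f - 4 / 3 :=
  claim_all hpb hout d hd (Nat.card K) F p f hp hf hF K hirr le_rfl

end Cfsg.Agent.H894
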