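import Cfsg.Agent.H894.CompRed

/-!
# Composition length: the numerical inequalities
-/

set_option autoImplicit false

namespace Cfsg.Agent.H894

open Real

theorem logb_le_of_pow_le {a k n : ℕ} (ha : 1 ≤ a) (hk : 0 < k) (h : a ^ k ≤ 2 ^ n) :
    Real.logb 2 a ≤ n / k := by
  have h1 : ((a : ℝ)) ^ k ≤ (2 : ℝ) ^ n := by exact_mod_cast h
  have h2 := Real.logb_le_logb_of_le (b := 2) (by norm_num) (by positivity) h1
  rw [Real.logb_pow, Real.logb_pow, Real.logb_self_eq_one (by norm_num), mul_one] at h2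
  rw [le_div_iff₀ (by exact_mod_cast hk)]
  linarith

theorem le_logb_of_le_pow {a k n : ℕ} (hk : 0 < k) (h : 2 ^ n ≤ a ^ k) :
    (n : ℝ) / k ≤ Real.logb 2 a := by
  have h1 : (2 : ℝ) ^ n ≤ ((a : ℝ)) ^ k := by exact_mod_cast h
  have h2 := Real.logb_le_logb_of_le (b := 2) (by norm_num) (by positivity) h1
  rw [Real.logb_pow, Real.logb_pow, Real.logb_self_eq_one (by norm_num), mul_one] at h2
  rw [div_le_iff₀ (by exact_mod_cast hk)]
  linarith

theorem logb_two_three_le : Real.logb 2 3 ≤ 8 / 5 := by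
  have := logb_le_of_pow_le (a := 3) (k := 5) (n := 8) (by norm_num) (by norm_num) (by norm_num)
  push_cast at this
  exact this

theorem le_logb_three : 19 / 12 ≤ Real.logb 2 3 := by
  have := le_logb_of_le_pow (a := 3) (k := 12) (n := 19) (by norm_num) (by norm_num)
  push_cast at this
  exact this

theorem le_logb_of_three_le {p : ℕ} (hp : 3 ≤ p) : 19 / 12 ≤ Real.logb 2 p := by
  refine le_logb_three.trans ?_
  apply Real.logb_le_logb_of_le (by norm_num) (by norm_num)
  exact_mod_cast hp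

theorem two_le_logb {p : ℕ} (hp : 4 ≤ p) : 2 ≤ Real.logb 2 p := by
  have h1 : Real.logb 2 4 ≤ Real.logb 2 p := by
    apply Real.logb_le_logb_of_le (by norm_num) (by norm_num)
    exact_mod_cast hp
  have h2 : Real.logb 2 4 = 2 := by
    rw [show (4 : ℝ) = 2 ^ (2 : ℕ) by norm_num, Real.logb_pow, Real.logb_self_eq_one (by norm_num)]
    norm_num
  linarith

theorem logb_le_sub_one {n : ℕ} (hn : 1 ≤ n) : Real.logb 2 n ≤ n - 1 := by
  obtain ⟨k, rfl⟩ := Nat.exists_eq_add_of_le' hn
  have h1 : (k + 1) ^ 1 ≤ 2 ^ k := by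
    rw [pow_one]; exact Nat.lt_two_pow_self
  have := logb_le_of_pow_le (a := k + 1) (k := 1) (n := k) (by omega) (by norm_num) h1
  push_cast at this ⊢
  linarith

theorem pow_eight_le (n : ℕ) (hn : 1 ≤ n) : n ^ 8 ≤ 2 ^ (4 * n + 1) := by
  induction n with
  | zero => omega
  | succ n ih =>
    rcases Nat.lt_or_ge n 3 with h | h
    · interval_cases n <;> norm_num
    · have h1 := ih (by omega)
      have h2 : (n + 1) ^ 8 ≤ 16 * n ^ 8 := by
        have h3 : 3 * (n + 1) ≤ 4 * n := by omega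
        have h4 : (3 * (n + 1)) ^ 8 ≤ (4 * n) ^ 8 := Nat.pow_le_pow_left h3 8
        rw [mul_pow, mul_pow] at h4
        norm_num at h4
        have h5 : 6561 * (n + 1) ^ 8 ≤ 6561 * (16 * n ^ 8) := by
          calc 6561 * (n + 1) ^ 8 ≤ 65536 * n ^ 8 := h4
            _ ≤ 6561 * (16 * n ^ 8) := by omega
        exact Nat.le_of_mul_le_mul_left h5 (by norm_num)
      calc (n + 1) ^ 8 ≤ 16 * n ^ 8 := h2
        _ ≤ 16 * 2 ^ (4 * n + 1) := Nat.mul_le_mul_left _ h1
        _ = 2 ^ (4 * (n + 1) + 1) := by ring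

theorem logb_le_half {n : ℕ} (hn : 1 ≤ n) : Real.logb 2 n ≤ n / 2 + 1 / 8 := by
  have := logb_le_of_pow_le (a := n) (k := 8) (n := 4 * n + 1) hn (by norm_num) (pow_eight_le n hn)
  push_cast at this
  linarith

theorem logb_real_le {x : ℝ} (hx : 0 < x) : Real.logb 2 x ≤ 3 / 4 * x - 2 / 5 := by
  have h1 : Real.log (x / 2) ≤ x / 2 - 1 := Real.log_le_sub_one_of_pos (by positivity)
  rw [Real.log_div hx.ne' (by norm_num)] at h1
  have h2 := Real.log_two_gt_d9
  have h3 := Real.log_two_lt_d9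
  rw [Real.logb, div_le_iff₀ (by linarith)]
  nlinarith

theorem three_pow_cardFactors_le (n : ℕ) (hn : Odd n) :
    3 ^ ArithmeticFunction.cardFactors n ≤ n := by
  have hn0 : n ≠ 0 := by rintro rfl; exact (by decide : ¬ Odd 0) hn
  rw [ArithmeticFunction.cardFactors_apply]
  conv_rhs => rw [← Nat.prod_primeFactorsList hn0]
  have : ∀ L : List ℕ, (∀ p ∈ L, 3 ≤ p) → 3 ^ L.length ≤ L.prod := by
    intro L
    induction L with
    | nil => intro _; simp
    | cons a L ih =>
      intro h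
      rw [List.length_cons, List.prod_cons, pow_succ, mul_comm]
      exact Nat.mul_le_mul (h a List.mem_cons_self) (ih fun p hp => h p (List.mem_cons_of_mem _ hp))
  apply this
  intro p hp
  have h1 := Nat.prime_of_mem_primeFactorsList hp
  have h2 := Nat.dvd_of_mem_primeFactorsList hp
  have h3 : p ≠ 2 := by
    rintro rfl
    exact (Nat.not_even_iff_odd.2 hn) (even_iff_two_dvd.2 h2)
  have := h1.two_le
  omega

/-- Hypotheses on the composition length `z` of the multiplicative group. -/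
structure ZB (p f z : ℕ) : Prop where
  prime : p.Prime
  one_le : 1 ≤ f
  two : 2 ^ z ≤ p ^ f - 1
  three : p = 2 → 3 ^ z ≤ 2 ^ f - 1

namespace ZB

variable {p f z : ℕ} (h : ZB p f z)
include h

theorem le_mul : (z : ℝ) ≤ f * Real.logb 2 p := by
  have h1 : 2 ^ z ≤ p ^ f := h.two.trans (Nat.sub_le _ _)
  have h2 := le_logb_of_le_pow (a := p ^ f) (k := 1) (n := z) (by norm_num) (by rwa [pow_one])
  push_cast at h2
  rw [Real.logb_pow] at h2
  linarith

theorem le_two (hp : p = 2) : (z : ℝ) ≤ 2 / 3 * f := by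
  have h1 : 3 ^ z ≤ 2 ^ f := (h.three hp).trans (Nat.sub_le _ _)
  have h2 : ((3 : ℝ)) ^ z ≤ (2 : ℝ) ^ f := by exact_mod_cast h1
  have h3 := Real.logb_le_logb_of_le (b := 2) (by norm_num) (by positivity) h2
  rw [Real.logb_pow, Real.logb_pow, Real.logb_self_eq_one (by norm_num), mul_one] at h3
  have h4 := le_logb_three
  have h5 : (0 : ℝ) ≤ z := by positivity
  nlinarith

theorem z_one (hp : p = 2) (hf : f = 1) : z = 0 := by
  have h1 := h.three hp
  rw [hf] at h1
  rcases Nat.eq_zero_or_pos z with h2 | h2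
  · exact h2
  · have : 3 ^ 1 ≤ 3 ^ z := Nat.pow_le_pow_right (by norm_num) h2
    omega

theorem z_two (hp : p = 2) (hf : f = 2) : z ≤ 1 := by
  have h1 := h.three hp
  rw [hf] at h1
  by_contra h2
  have : 3 ^ 2 ≤ 3 ^ z := Nat.pow_le_pow_right (by norm_num) (by omega)
  omega

theorem z_three (hp : p = 2) (hf : f = 3) : z ≤ 1 := by
  have h1 := h.three hp
  rw [hf] at h1
  by_contra h2
  have : 3 ^ 2 ≤ 3 ^ z := Nat.pow_le_pow_right (by norm_num) (by omega)
  omega

theorem z_p_three (hp : p = 3) (hf : f = 1) : z ≤ 1 := by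
  have h1 := h.two
  rw [hf, hp] at h1
  by_contra h2
  have : 2 ^ 2 ≤ 2 ^ z := Nat.pow_le_pow_right (by norm_num) (by omega)
  omega

/-- Dimension one. -/
theorem num_cyc : (z : ℝ) ≤ bd p 1 f := by
  have hf := h.one_le
  have hfR : (1 : ℝ) ≤ f := by exact_mod_cast hf
  unfold bd
  by_cases hp : p = 2
  · subst hp
    push_cast
    rw [Real.logb_self_eq_one (by norm_num)]
    rcases Nat.lt_or_ge f 4 with h4 | h4
    · interval_cases f
      · rw [h.z_one rfl rfl]; norm_num
      · have h1 : (z : ℝ) ≤ 1 := by exact_mod_cast h.z_two rfl rfl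
        push_cast
        rw [Real.logb_self_eq_one (by norm_num)]
        linarith
      · have h1 : (z : ℝ) ≤ 1 := by exact_mod_cast h.z_three rfl rfl
        have h2 := logb_two_three_le
        push_cast
        linarith
    · have h1 := h.le_two rfl
      have h2 := logb_le_half hf
      have h3 : (4 : ℝ) ≤ f := by exact_mod_cast h4
      linarith
  · have hp3 : 3 ≤ p := by
      have := h.prime.two_le
      omega
    have h1 := h.le_mul
    have h2 := le_logb_of_three_le hp3
    have h3 := logb_le_sub_one hf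
    push_cast
    nlinarith [mul_nonneg (sub_nonneg.2 h2) (sub_nonneg.2 hfR)]

end ZB

end Cfsg.Agent.H894
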