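import Cfsg.Agent.H894.CompNum2

/-!
# Composition length: the numerical inequalities, third part
-/

set_option autoImplicit false

namespace Cfsg.Agent.H894

open Real

theorem one_le_logb_prime {p : ℕ} (hp : p.Prime) : (1 : ℝ) ≤ Real.logb 2 p := by
  have h1 : Real.logb 2 2 ≤ Real.logb 2 p := by
    apply Real.logb_le_logb_of_le (by norm_num) (by norm_num)
    exact_mod_cast hp.two_le
  rwa [Real.logb_self_eq_one (by norm_num)] at h1

/-- The imprimitive and the tensor wreath cases. -/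
theorem num_blocks {p f t m d x : ℕ} (hp : p.Prime) (ht : 1 ≤ t)
    (htm : t * m ≤ d) (h0 : 0 ≤ bd p m f)
    (hx : 3 * x ≤ 3 * (t * ⌊bd p m f⌋₊) + 4 * (t - 1)) : (x : ℝ) ≤ bd p d f := by
  have hL := one_le_logb_prime hp
  have hf0 := logb_nonneg_natCast f
  have htR : (1 : ℝ) ≤ t := by exact_mod_cast ht
  have hfl := Nat.floor_le h0
  have hxR : (3 : ℝ) * x ≤ 3 * (t * ⌊bd p m f⌋₊) + 4 * (t - 1) := by
    have h1 : ((3 * x : ℕ) : ℝ) ≤ ((3 * (t * ⌊bd p m f⌋₊) + 4 * (t - 1) : ℕ) : ℝ) := by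
      exact_mod_cast hx
    push_cast [Nat.cast_sub ht] at h1
    linarith
  have h2 : (t : ℝ) * ⌊bd p m f⌋₊ ≤ t * bd p m f := mul_le_mul_of_nonneg_left hfl (by linarith)
  generalize ((⌊bd p m f⌋₊ : ℕ) : ℝ) = y at hxR h2 hfl
  unfold bd at h2 ⊢
  have h3 : ((t : ℝ) * m) ≤ d := by exact_mod_cast htm
  have h4 : (8 / 3 * Real.logb 2 p - 1) * ((t : ℝ) * m) * f ≤
      (8 / 3 * Real.logb 2 p - 1) * d * f := by
    apply mul_le_mul_of_nonneg_right _ (Nat.cast_nonneg f)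
    apply mul_le_mul_of_nonneg_left h3
    linarith
  have h5 : Real.logb 2 f ≤ t * Real.logb 2 f := by nlinarith
  have h6 : (8 / 3 * Real.logb 2 p - 1) * ((t : ℝ) * m) * f =
      t * ((8 / 3 * Real.logb 2 p - 1) * m * f) := by ring
  have h7 : (t : ℝ) * ((8 / 3 * Real.logb 2 p - 1) * m * f - Real.logb 2 f - 4 / 3) =
      t * ((8 / 3 * Real.logb 2 p - 1) * m * f) - t * Real.logb 2 f - 4 / 3 * t := by ring
  rw [h7] at h2
  linarith

/-- The tensor product case. -/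
theorem num_tensor {p f n₁ n₂ : ℕ} (hp : p.Prime) (h1 : 2 ≤ n₁) (h2 : 2 ≤ n₂) :
    bd p n₁ f + bd p n₂ f ≤ bd p (n₁ * n₂) f := by
  have hL := one_le_logb_prime hp
  have hf0 := logb_nonneg_natCast f
  have h1R : (2 : ℝ) ≤ n₁ := by exact_mod_cast h1
  have h2R : (2 : ℝ) ≤ n₂ := by exact_mod_cast h2
  unfold bd
  push_cast
  have h3 : (n₁ : ℝ) + n₂ ≤ n₁ * n₂ := by nlinarith
  have h4 : (8 / 3 * Real.logb 2 p - 1) * ((n₁ : ℝ) + n₂) * f ≤
      (8 / 3 * Real.logb 2 p - 1) * (n₁ * n₂) * f := by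
    apply mul_le_mul_of_nonneg_right _ (Nat.cast_nonneg f)
    apply mul_le_mul_of_nonneg_left h3
    linarith
  have h5 : (8 / 3 * Real.logb 2 p - 1) * ((n₁ : ℝ) + n₂) * f =
      (8 / 3 * Real.logb 2 p - 1) * n₁ * f + (8 / 3 * Real.logb 2 p - 1) * n₂ * f := by ring
  linarith

theorem le_pow_of_two_le {t m : ℕ} (ht : 1 ≤ t) (hm : 2 ≤ m) : t * m ≤ m ^ t := by
  induction t with
  | zero => omega
  | succ t ih =>
    rcases Nat.eq_zero_or_pos t with h | h
    · subst h; simp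
    · have h1 := ih h
      have h2 : m ≤ m ^ t := by
        calc m = m ^ 1 := (pow_one m).symm
          _ ≤ m ^ t := Nat.pow_le_pow_right (by omega) h
      rw [pow_succ]
      nlinarith

end Cfsg.Agent.H894
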