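import Cfsg.Agent.H894.CompTens
import Cfsg.Agent.H919.AschSplit

/-!
# Composition length: linear groups permuting the factors of a tensor power
-/

set_option autoImplicit false

namespace Cfsg.Agent.H894

open Cfsg Cfsg.Geo Matrix Cfsg.Agent.H893 Cfsg.Agent.H912
open scoped Kronecker

universe u v w

section

variable {F : Type u} [Field F]

theorem clen_scalars {n : ℕ} (hn : 0 < n) : clen (scalars (Fin n) F) = clen Fˣ := by
  have hne : Nonempty (Fin n) := ⟨⟨0, hn⟩⟩
  have hinj : Function.Injective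
      (Units.map (Matrix.scalar (Fin n) : F →+* Matrix (Fin n) (Fin n) F).toMonoidHom) := by
    apply Units.map_injective
    exact (Matrix.scalar (Fin n) : F →+* Matrix (Fin n) (Fin n) F).injective
  exact (clen_congr (MonoidHom.ofInjective hinj)).symm

/-- Conjugation as a homomorphism into the algebra automorphisms. -/
def cjH (F : Type u) [Field F] (n : ℕ) :
    GL (Fin n) F →* (Matrix (Fin n) (Fin n) F ≃ₐ[F] Matrix (Fin n) (Fin n) F) where
  toFun g := conjAlg g
  map_one' := by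
    apply AlgEquiv.ext; intro x
    rw [conjAlg_apply]; simp
  map_mul' g h := by
    apply AlgEquiv.ext; intro x
    rw [AlgEquiv.mul_apply, conjAlg_apply, conjAlg_apply, conjAlg_apply]
    rw [_root_.mul_inv_rev, Units.val_mul, Units.val_mul]
    simp only [mul_assoc]

theorem cjH_apply {n : ℕ} (g : GL (Fin n) F) (x : Matrix (Fin n) (Fin n) F) :
    cjH F n g x = (g : Matrix (Fin n) (Fin n) F) * x *
      ((g⁻¹ : GL (Fin n) F) : Matrix (Fin n) (Fin n) F) := rfl

theorem cjH_eq_iff {n : ℕ} (g : GL (Fin n) F) (x y : Matrix (Fin n) (Fin n) F) :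
    cjH F n g x = y ↔ (g : Matrix (Fin n) (Fin n) F) * x = y * g := by
  rw [cjH_apply]
  constructor
  · intro h
    rw [← h, mul_assoc, ← Units.val_mul, inv_mul_cancel, Units.val_one, mul_one]
  · intro h
    rw [h, mul_assoc, ← Units.val_mul, mul_inv_cancel, Units.val_one, mul_one]

theorem cjH_mul {n : ℕ} (g h : GL (Fin n) F) (x : Matrix (Fin n) (Fin n) F) :
    cjH F n (g * h) x = cjH F n g (cjH F n h x) := by
  rw [map_mul]; rfl

theorem cjH_one {n : ℕ} (x : Matrix (Fin n) (Fin n) F) : cjH F n 1 x = x := by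
  rw [map_one]; rfl

theorem mem_scalars_of_cjH {n : ℕ} {g : GL (Fin n) F} (h : ∀ x, cjH F n g x = x) :
    g ∈ scalars (Fin n) F := by
  rcases Nat.eq_zero_or_pos n with rfl | hn
  · have : g = 1 := Units.ext (by ext i; exact i.elim0)
    rw [this]; exact Subgroup.one_mem _
  obtain ⟨c, hc⟩ := Cfsg.Agent.H919.scalar_of_commute_all
    (M := (g : Matrix (Fin n) (Fin n) F)) (fun x => (cjH_eq_iff g x x).1 (h x))
  have hc0 : c ≠ 0 := by
    rintro rfl
    have h1 : (g : Matrix (Fin n) (Fin n) F) * ((g⁻¹ : GL (Fin n) F) : Matrix (Fin n) (Fin n) F) = 1 := by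
      rw [← Units.val_mul, mul_inv_cancel, Units.val_one]
    rw [hc, zero_smul, zero_mul] at h1
    have := congrFun (congrFun h1 ⟨0, hn⟩) ⟨0, hn⟩
    simp at this
  exact (mem_scalars_iff g).2 ⟨Units.mk0 c hc0, hc⟩

theorem cjH_of_mem_scalars {n : ℕ} {g : GL (Fin n) F} (h : g ∈ scalars (Fin n) F)
    (x : Matrix (Fin n) (Fin n) F) : cjH F n g x = x := by
  obtain ⟨c, hc⟩ := (mem_scalars_iff g).1 h
  rw [cjH_eq_iff, hc]
  simp

variable {d m t : ℕ}

/-- The group induced (up to scalars) by `B` on the `i`-th factor. -/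
def Gi (ψ : Fin t → (Matrix (Fin m) (Fin m) F →ₐ[F] Matrix (Fin d) (Fin d) F))
    (B : Subgroup (GL (Fin d) F)) (i : Fin t) : Subgroup (GL (Fin m) F) where
  carrier := {a | ∃ k ∈ B, ∀ x : Matrix (Fin m) (Fin m) F, cjH F d k (ψ i x) = ψ i (cjH F m a x)}
  one_mem' := ⟨1, B.one_mem, fun x => by rw [cjH_one, cjH_one]⟩
  mul_mem' := by
    rintro a b ⟨k, hk, hk'⟩ ⟨l, hl, hl'⟩
    exact ⟨k * l, B.mul_mem hk hl, fun x => by rw [cjH_mul, hl', hk', cjH_mul]⟩
  inv_mem' := by
    rintro a ⟨k, hk, hk'⟩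
    refine ⟨k⁻¹, B.inv_mem hk, fun x => ?_⟩
    have h1 := hk' (cjH F m a⁻¹ x)
    rw [← cjH_mul a, mul_inv_cancel, cjH_one] at h1
    rw [← h1, ← cjH_mul, inv_mul_cancel, cjH_one]

theorem mem_Gi {ψ : Fin t → (Matrix (Fin m) (Fin m) F →ₐ[F] Matrix (Fin d) (Fin d) F)}
    {B : Subgroup (GL (Fin d) F)} {i : Fin t} {a : GL (Fin m) F} : a ∈ Gi ψ B i ↔
      ∃ k ∈ B, ∀ x : Matrix (Fin m) (Fin m) F, cjH F d k (ψ i x) = ψ i (cjH F m a x) :=
  Iff.rfl

/-- Skolem–Noether for a normalised full matrix subalgebra. -/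
theorem exists_inner (ψ : Matrix (Fin m) (Fin m) F →ₐ[F] Matrix (Fin d) (Fin d) F)
    (hinj : Function.Injective ψ) {B : Subgroup (GL (Fin d) F)}
    (hB : ∀ k ∈ B, ∀ x, ∃ y, cjH F d k (ψ x) = ψ y) (k : GL (Fin d) F) (hk : k ∈ B) :
    ∃ a : GL (Fin m) F, ∀ x, cjH F d k (ψ x) = ψ (cjH F m a x) := by
  have hA : NormAlg B ψ.range := by
    rintro h hh _ ⟨x, rfl⟩
    obtain ⟨y, hy⟩ := hB h hh x
    exact ⟨y, hy.symm⟩
  let e : Matrix (Fin m) (Fin m) F ≃ₐ[F] ψ.range := AlgEquiv.ofInjective ψ hinj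
  let α : Matrix (Fin m) (Fin m) F ≃ₐ[F] Matrix (Fin m) (Fin m) F :=
    (e.trans (conjSub hA ⟨k, hk⟩)).trans e.symm
  obtain ⟨a, ha⟩ := Cfsg.Agent.H919.exists_conj_of_algEquiv α
  refine ⟨a, fun x => ?_⟩
  have h1 : ((e (α x) : ψ.range) : Matrix (Fin d) (Fin d) F) = cjH F d k (ψ x) := by
    have h2 : e (α x) = conjSub hA ⟨k, hk⟩ (e x) := by
      change e (e.symm (conjSub hA ⟨k, hk⟩ (e x))) = _
      rw [AlgEquiv.apply_symm_apply]
    rw [h2, conjSub_coe]
    rfl
  rw [← h1, cjH_apply, ← ha]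
  rfl

theorem wreath_ker_aux [Finite F] (hm : 0 < m) (hd : 0 < d) (ht : 0 < t)
    (ψ : Fin t → (Matrix (Fin m) (Fin m) F →ₐ[F] Matrix (Fin d) (Fin d) F))
    (hinj : ∀ i, Function.Injective (ψ i))
    (hscal : ∀ k : GL (Fin d) F, (∀ i x, cjH F d k (ψ i x) = ψ i x) → k ∈ scalars (Fin d) F)
    (B : Subgroup (GL (Fin d) F))
    (hB : ∀ k ∈ B, ∀ i x, ∃ y, cjH F d k (ψ i x) = ψ i y) :
    clen B ≤ ∑ i, clen (Gi ψ B i) := by
  classical
  have hex : ∀ k : B, ∃ a : Fin t → GL (Fin m) F, ∀ i x,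
      cjH F d (k : GL (Fin d) F) (ψ i x) = ψ i (cjH F m (a i) x) := by
    intro k
    choose a ha using fun i => exists_inner (ψ i) (hinj i) (fun k hk x => hB k hk i x) k k.2
    exact ⟨a, ha⟩
  let L : Subgroup ((Fin t → GL (Fin m) F) × B) :=
    { carrier := {y | ∀ i x, cjH F d (y.2 : GL (Fin d) F) (ψ i x) = ψ i (cjH F m (y.1 i) x)}
      one_mem' := fun i x => by
        change cjH F d 1 (ψ i x) = ψ i (cjH F m 1 x)
        rw [cjH_one, cjH_one]
      mul_mem' := by
        intro y z hy hz i x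
        change cjH F d ((y.2 : GL (Fin d) F) * (z.2 : GL (Fin d) F)) (ψ i x) =
          ψ i (cjH F m (y.1 i * z.1 i) x)
        rw [cjH_mul, hz, hy, cjH_mul]
      inv_mem' := by
        intro y hy i x
        obtain ⟨k, hk, hk'⟩ := (Gi ψ B i).inv_mem (x := y.1 i) ⟨y.2, y.2.2, hy i⟩
        have h1 := hy i (cjH F m (y.1 i)⁻¹ x)
        rw [← cjH_mul (y.1 i), mul_inv_cancel, cjH_one] at h1
        change cjH F d (y.2 : GL (Fin d) F)⁻¹ (ψ i x) = ψ i (cjH F m (y.1 i)⁻¹ x)
        rw [← h1, ← cjH_mul, inv_mul_cancel, cjH_one] }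
  have hL : ∀ y : (Fin t → GL (Fin m) F) × B, y ∈ L ↔
      ∀ i x, cjH F d (y.2 : GL (Fin d) F) (ψ i x) = ψ i (cjH F m (y.1 i) x) := fun y => Iff.rfl
  have hFinL : Finite L := inferInstance
  let pB : L →* B := (MonoidHom.snd _ _).comp L.subtype
  let pA : L →* (Fin t → GL (Fin m) F) := (MonoidHom.fst _ _).comp L.subtype
  have hpB : Function.Surjective pB := by
    intro k
    obtain ⟨a, ha⟩ := hex k
    exact ⟨⟨(a, k), ha⟩, rfl⟩
  have e1 := clen_of_surjective pB hpB
  have e2 := clen_range pA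
  -- the kernel of pB is large
  have e3 : clen (scalars (Fin m) F) ≤ clen pB.ker := by
    let i₀ : Fin t := ⟨0, ht⟩
    have hsc : ∀ y : pB.ker, (y : L).1.1 i₀ ∈ scalars (Fin m) F := by
      intro y
      have h1 : (y : L).1.2 = 1 := y.2
      have h2 := (hL (y : L).1).1 (y : L).2 i₀
      apply mem_scalars_of_cjH
      intro x
      apply hinj i₀
      rw [← h2, h1]
      exact cjH_one _
    let f : pB.ker →* scalars (Fin m) F :=
      { toFun := fun y => ⟨(y : L).1.1 i₀, hsc y⟩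
        map_one' := rfl
        map_mul' := fun _ _ => rfl }
    apply clen_le_of_surjective f
    intro c
    have hmem : ((fun _ => (c : GL (Fin m) F), 1) : (Fin t → GL (Fin m) F) × B) ∈ L := by
      rw [hL]
      intro i x
      change cjH F d 1 (ψ i x) = ψ i (cjH F m (c : GL (Fin m) F) x)
      rw [cjH_one, cjH_of_mem_scalars c.2]
    exact ⟨⟨⟨_, hmem⟩, rfl⟩, rfl⟩
  -- the kernel of pA is small
  have e4 : clen pA.ker ≤ clen (scalars (Fin d) F) := by
    have hsc : ∀ y : pA.ker, ((y : L).1.2 : GL (Fin d) F) ∈ scalars (Fin d) F := by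
      intro y
      have h1 : (y : L).1.1 = 1 := y.2
      have h2 := (hL (y : L).1).1 (y : L).2
      apply hscal
      intro i x
      rw [h2, h1]
      congr 1
      exact cjH_one _
    let f : pA.ker →* scalars (Fin d) F :=
      { toFun := fun y => ⟨((y : L).1.2 : GL (Fin d) F), hsc y⟩
        map_one' := rfl
        map_mul' := fun _ _ => rfl }
    refine clen_le_of_injective f ?_ ?_
    · intro y z hyz
      have h1 : (y : L).1.1 = 1 := y.2
      have h2 : (z : L).1.1 = 1 := z.2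
      have h3 : ((y : L).1.2 : GL (Fin d) F) = ((z : L).1.2 : GL (Fin d) F) :=
        congrArg (fun w : scalars (Fin d) F => (w : GL (Fin d) F)) hyz
      apply Subtype.ext; apply Subtype.ext
      exact Prod.ext (h1.trans h2.symm) (Subtype.ext h3)
    · have : IsMulCommutative (scalars (Fin d) F) := by
        refine ⟨⟨fun a b => Subtype.ext ?_⟩⟩
        exact Cfsg.Agent.H919.scalars_comm _ a.2 _
      infer_instance
  -- the projections
  have e5 : clen pA.range ≤ ∑ i, clen (Gi ψ B i) := by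
    let q : ∀ i : Fin t, pA.range →* GL (Fin m) F := fun i =>
      (Pi.evalMonoidHom (fun _ : Fin t => GL (Fin m) F) i).comp pA.range.subtype
    have h1 := clen_le_sum (G := pA.range) (Finset.univ : Finset (Fin t)) q (by
      intro g hg
      apply Subtype.ext
      funext i
      exact hg i (Finset.mem_univ i))
    refine h1.trans (Finset.sum_le_sum fun i _ => le_of_eq ?_)
    have h2 : (q i).range = Gi ψ B i := by
      ext a
      constructor
      · rintro ⟨⟨_, ⟨y, rfl⟩⟩, rfl⟩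
        exact ⟨y.1.2, y.1.2.2, fun x => (hL y.1).1 y.2 i x⟩
      · rintro ⟨k, hk, hk'⟩
        obtain ⟨a', ha'⟩ := hex ⟨k, hk⟩
        have hmem : ((Function.update a' i a, ⟨k, hk⟩) : (Fin t → GL (Fin m) F) × B) ∈ L := by
          rw [hL]
          intro j x
          change cjH F d k (ψ j x) = ψ j (cjH F m (Function.update a' i a j) x)
          by_cases hj : j = i
          · subst hj; rw [Function.update_self]; exact hk' x
          · rw [Function.update_of_ne hj]; exact ha' j x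
        refine ⟨⟨_, ⟨⟨_, hmem⟩, rfl⟩⟩, ?_⟩
        change Function.update a' i a i = a
        rw [Function.update_self]
    rw [h2]
  have e6 : clen (scalars (Fin m) F) = clen (scalars (Fin d) F) := by
    rw [clen_scalars hm, clen_scalars hd]
  omega

end

end Cfsg.Agent.H894
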