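import Cfsg.Agent.H894.CompEl
import Cfsg.Agent.H894.CompWr
import Cfsg.Agent.H920.SympC

/-!
# Composition length: the symplectic type case
-/

set_option autoImplicit false

namespace Cfsg.Agent.H894

open Cfsg Cfsg.Geo Matrix Cfsg.Agent.H893 Cfsg.Agent.H912
open Cfsg.Agent.H920 (mem_scalars_of_comm' card_quotient_scalars powScalar mem_powScalar
  exists_prime_pow_scalar commutator_pow le_scalars_of_comm)

universe u v w

section pairing

/-- A group of automorphisms of an elementary abelian group of order 9 preserving a pairing. -/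
theorem card_le_24 {Q : Type v} [CommGroup Q] [Finite Q] (hcard : Nat.card Q = 9)
    {Z : Type w} [Group Z] (β : Q → Q → Z) (hβ : ∀ a b c, β a (b * c) = β a b * β a c)
    (hβ1 : ∀ a, β a a = 1) (hβ1' : ∀ b, β 1 b = 1)
    {x y : Q} (hxy : β x y ≠ 1) (R : Subgroup (MulAut Q))
    (hR : ∀ g ∈ R, ∀ a b, β (g a) (g b) = β a b) : Nat.card R ≤ 24 := by
  classical
  have hFQ : Fintype Q := Fintype.ofFinite Q
  set s := β x y with hs
  -- the kernels
  have hone : ∀ a, β a 1 = 1 := by
    intro a
    have := hβ a 1 1
    rw [mul_one] at this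
    exact (mul_eq_left.1 this.symm)
  have hinv : ∀ a b, β a b⁻¹ = (β a b)⁻¹ := by
    intro a b
    have := hβ a b⁻¹ b
    rw [inv_mul_cancel, hone] at this
    exact eq_inv_of_mul_eq_one_left this.symm
  let K : Q → Subgroup Q := fun a =>
    { carrier := {b | β a b = 1}
      mul_mem' := fun {b c} hb hc => by
        change β a (b * c) = 1
        rw [hβ, hb, hc, mul_one]
      one_mem' := hone a
      inv_mem' := fun {b} hb => by
        change β a b⁻¹ = 1
        rw [hinv, hb, inv_one] }
  have hK3 : ∀ a b, β a b ≠ 1 → Nat.card (K a) ≤ 3 := by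
    intro a b hab
    have h1 : Nat.card (K a) ∣ 9 := hcard ▸ Subgroup.card_subgroup_dvd_card (K a)
    have h2 : Nat.card (K a) ≠ 9 := by
      intro h
      have h3 : K a = ⊤ := Subgroup.eq_top_of_card_eq _ (by rw [h, hcard])
      have h4 : b ∈ K a := by rw [h3]; trivial
      exact hab h4
    have h3 : Nat.card (K a) ≤ 9 := Nat.le_of_dvd (by norm_num) h1
    interval_cases h : Nat.card (K a) <;> omega
  -- the number of `b` with `β a b = s`
  have hfib : ∀ a, (Finset.univ.filter fun b => β a b = s).card ≤ if a = 1 then 0 else 3 := by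
    intro a
    by_cases ha : a = 1
    · rw [if_pos ha, Nat.le_zero, Finset.card_eq_zero, Finset.filter_eq_empty_iff]
      intro b _ hb
      rw [ha, hβ1'] at hb
      exact hxy hb.symm
    · rw [if_neg ha]
      rcases Finset.eq_empty_or_nonempty (Finset.univ.filter fun b => β a b = s) with h | ⟨b₀, hb₀⟩
      · rw [h]; simp
      · rw [Finset.mem_filter] at hb₀
        have hb₀' : β a b₀ ≠ 1 := by rw [hb₀.2]; exact hxy
        refine le_trans ?_ (hK3 a b₀ hb₀')
        rw [Nat.card_eq_fintype_card, ← Fintype.card_coe]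
        refine Fintype.card_le_of_injective
          (fun b => (⟨b₀⁻¹ * (b : Q), by
            have h1 := (Finset.mem_filter.1 b.2).2
            change β a (b₀⁻¹ * (b : Q)) = 1
            rw [hβ, hinv, h1, hb₀.2, inv_mul_cancel]⟩ : K a)) ?_
        intro b c hbc
        apply Subtype.ext
        exact mul_left_cancel (congrArg Subtype.val hbc)
  have hpairs : (Finset.univ.filter fun p : Q × Q => β p.1 p.2 = s).card ≤ 24 := by
    have h1 : (Finset.univ.filter fun p : Q × Q => β p.1 p.2 = s).card =
        ∑ a : Q, (Finset.univ.filter fun b => β a b = s).card := by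
      rw [Finset.card_filter, Fintype.sum_prod_type]
      refine Finset.sum_congr rfl fun a _ => ?_
      rw [Finset.card_filter]
    rw [h1]
    refine (Finset.sum_le_sum fun a _ => hfib a).trans ?_
    rw [Finset.sum_ite]
    simp only [Finset.sum_const_zero, zero_add, Finset.sum_const, smul_eq_mul]
    have h2 : (Finset.univ.filter fun a : Q => ¬ a = 1).card = 8 := by
      have h3 : (Finset.univ.filter fun a : Q => ¬ a = 1) = Finset.univ.erase 1 := by
        ext a; simp
      rw [h3, Finset.card_erase_of_mem (Finset.mem_univ _), Finset.card_univ,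
        ← Nat.card_eq_fintype_card, hcard]
    rw [h2]
  refine le_trans ?_ hpairs
  have hpow : ∀ a b, ∀ n : ℕ, β a (b ^ n) = β a b ^ n := by
    intro a b n
    induction n with
    | zero => rw [pow_zero, pow_zero]; exact hone a
    | succ n ih => rw [pow_succ, hβ, ih, pow_succ]
  have hx1 : x ≠ 1 := by
    rintro rfl
    exact hxy (hβ1' y)
  have hFR : Fintype R := Fintype.ofFinite R
  rw [Nat.card_eq_fintype_card, ← Fintype.card_coe]
  refine Fintype.card_le_of_injective
    (fun g => (⟨((g : MulAut Q) x, (g : MulAut Q) y), by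
      rw [Finset.mem_filter]
      exact ⟨Finset.mem_univ _, hR g g.2 x y⟩⟩ :
        {p // p ∈ (Finset.univ.filter fun p : Q × Q => β p.1 p.2 = s)})) ?_
  intro g g' hgg
  have h1 := congrArg Subtype.val hgg
  have h2 : (g : MulAut Q) x = (g' : MulAut Q) x := congrArg Prod.fst h1
  have h3 : (g : MulAut Q) y = (g' : MulAut Q) y := congrArg Prod.snd h1
  let T : Subgroup Q :=
    { carrier := {q | (g : MulAut Q) q = (g' : MulAut Q) q}
      mul_mem' := fun {a b} ha hb => by
        change (g : MulAut Q) (a * b) = (g' : MulAut Q) (a * b)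
        rw [map_mul, map_mul, ha, hb]
      one_mem' := by change (g : MulAut Q) 1 = (g' : MulAut Q) 1; rw [map_one, map_one]
      inv_mem' := fun {a} ha => by
        change (g : MulAut Q) a⁻¹ = (g' : MulAut Q) a⁻¹
        rw [map_inv, map_inv, ha] }
  have hxT : x ∈ T := h2
  have hyT : y ∈ T := h3
  have hTtop : T = ⊤ := by
    have h4 : Nat.card T ∣ 9 := hcard ▸ Subgroup.card_subgroup_dvd_card T
    have h5 : Nat.card T ≤ 9 := Nat.le_of_dvd (by norm_num) h4
    have h6 : Nat.card T ≠ 1 := by
      intro h
      have := (Subgroup.card_eq_one).1 h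
      rw [this, Subgroup.mem_bot] at hxT
      exact hx1 hxT
    have h7 : Nat.card T ≠ 3 := by
      intro h
      have hp : Fact (Nat.Prime 3) := ⟨by norm_num⟩
      have h8 : (⟨y, hyT⟩ : T) ∈ Subgroup.zpowers (⟨x, hxT⟩ : T) :=
        mem_zpowers_of_prime_card h (fun h' => hx1 (congrArg Subtype.val h'))
      rw [mem_zpowers_iff_mem_range_orderOf, Finset.mem_image] at h8
      obtain ⟨n, _, hn⟩ := h8
      have h9 : x ^ n = y := congrArg Subtype.val hn
      apply hxy
      rw [hs, ← h9, hpow, hβ1, one_pow]
    have h8 : Nat.card T = 9 := by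
      interval_cases h : Nat.card T <;> omega
    exact Subgroup.eq_top_of_card_eq _ (by rw [h8, hcard])
  apply Subtype.ext
  apply MulEquiv.ext
  intro q
  have : q ∈ T := by rw [hTtop]; trivial
  exact this

end pairing

end Cfsg.Agent.H894
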