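import Cfsg.Agent.H894.CompSymp

/-!
# Composition length: the symplectic type case, main lemma
-/

set_option autoImplicit false

namespace Cfsg.Agent.H894

open Cfsg Cfsg.Geo Matrix Cfsg.Agent.H893 Cfsg.Agent.H912
open Cfsg.Agent.H920 (mem_scalars_of_comm' card_quotient_scalars powScalar mem_powScalar
  exists_prime_pow_scalar commutator_pow le_scalars_of_comm)

universe u v w

section

variable {F : Type u} [Field F] {d : ℕ}

theorem scal_comm {z : GL (Fin d) F} (hz : z ∈ scalars (Fin d) F) (g : GL (Fin d) F) :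
    z * g = g * z := Cfsg.Agent.H919.scalars_comm z hz g

theorem absIrr_mono {R S : Subgroup (GL (Fin d) F)} (h : R ≤ S)
    (hR : ActsAbsolutelyIrreducibly (matrixSet R)) : ActsAbsolutelyIrreducibly (matrixSet S) := by
  have hsub : matrixSet R ⊆ matrixSet S := by
    rintro _ ⟨g, hg, rfl⟩
    exact ⟨g, h hg, rfl⟩
  exact ⟨fun W hW => hR.1 W fun s hs => hW s (hsub hs), fun M hM => hR.2 M fun s hs => hM s (hsub hs)⟩

/-- The centraliser modulo scalars of an absolutely irreducible group has scalar commutators. -/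
theorem comm_of_act {E C : Subgroup (GL (Fin d) F)} (hE : ActsAbsolutelyIrreducibly (matrixSet E))
    (hC : ∀ c ∈ C, ∀ y ∈ E, c * y * c⁻¹ * y⁻¹ ∈ scalars (Fin d) F) :
    ∀ a ∈ C, ∀ b ∈ C, a * b * a⁻¹ * b⁻¹ ∈ scalars (Fin d) F := by
  intro a ha b hb
  apply mem_scalars_of_comm' hE
  intro y hy
  -- `a y a⁻¹ = λ y`, `b y b⁻¹ = μ y`
  have key : ∀ g h : GL (Fin d) F, (∃ l ∈ scalars (Fin d) F, g * y = l * y * g) →
      (∃ l ∈ scalars (Fin d) F, h * y = l * y * h) →
        ∃ l ∈ scalars (Fin d) F, True := fun _ _ h _ => by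
    obtain ⟨l, hl, _⟩ := h; exact ⟨l, hl, trivial⟩
  set l := a * y * a⁻¹ * y⁻¹ with hl
  set m := b * y * b⁻¹ * y⁻¹ with hm
  have hls : l ∈ scalars (Fin d) F := hC a ha y hy
  have hms : m ∈ scalars (Fin d) F := hC b hb y hy
  have h1 : a * y = l * y * a := by rw [hl]; group
  have h2 : b * y = m * y * b := by rw [hm]; group
  have h3 : a⁻¹ * y = l⁻¹ * y * a⁻¹ := by
    have : a * (l⁻¹ * y * a⁻¹) = y := by
      calc a * (l⁻¹ * y * a⁻¹) = (a * l⁻¹) * y * a⁻¹ := by group
        _ = (l⁻¹ * a) * y * a⁻¹ := by rw [scal_comm (Subgroup.inv_mem _ hls) a]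
        _ = l⁻¹ * (a * y) * a⁻¹ := by group
        _ = l⁻¹ * (l * y * a) * a⁻¹ := by rw [h1]
        _ = y := by group
    calc a⁻¹ * y = a⁻¹ * (a * (l⁻¹ * y * a⁻¹)) := by rw [this]
      _ = _ := by group
  have h4 : b⁻¹ * y = m⁻¹ * y * b⁻¹ := by
    have : b * (m⁻¹ * y * b⁻¹) = y := by
      calc b * (m⁻¹ * y * b⁻¹) = (b * m⁻¹) * y * b⁻¹ := by group
        _ = (m⁻¹ * b) * y * b⁻¹ := by rw [scal_comm (Subgroup.inv_mem _ hms) b]
        _ = m⁻¹ * (b * y) * b⁻¹ := by group
        _ = m⁻¹ * (m * y * b) * b⁻¹ := by rw [h2]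
        _ = y := by group
    calc b⁻¹ * y = b⁻¹ * (b * (m⁻¹ * y * b⁻¹)) := by rw [this]
      _ = _ := by group
  have hli := Subgroup.inv_mem _ hls
  have hmi := Subgroup.inv_mem _ hms
  calc a * b * a⁻¹ * b⁻¹ * y = a * b * a⁻¹ * (b⁻¹ * y) := by group
    _ = a * b * a⁻¹ * (m⁻¹ * y * b⁻¹) := by rw [h4]
    _ = (a * b * a⁻¹ * m⁻¹) * y * b⁻¹ := by group
    _ = (m⁻¹ * (a * b * a⁻¹)) * y * b⁻¹ := by rw [scal_comm hmi (a * b * a⁻¹)]
    _ = m⁻¹ * (a * b) * (a⁻¹ * y) * b⁻¹ := by group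
    _ = m⁻¹ * (a * b) * (l⁻¹ * y * a⁻¹) * b⁻¹ := by rw [h3]
    _ = m⁻¹ * ((a * b) * l⁻¹) * y * a⁻¹ * b⁻¹ := by group
    _ = m⁻¹ * (l⁻¹ * (a * b)) * y * a⁻¹ * b⁻¹ := by rw [scal_comm hli (a * b)]
    _ = m⁻¹ * l⁻¹ * a * (b * y) * a⁻¹ * b⁻¹ := by group
    _ = m⁻¹ * l⁻¹ * a * (m * y * b) * a⁻¹ * b⁻¹ := by rw [h2]
    _ = m⁻¹ * l⁻¹ * (a * m) * y * b * a⁻¹ * b⁻¹ := by group
    _ = m⁻¹ * l⁻¹ * (m * a) * y * b * a⁻¹ * b⁻¹ := by rw [scal_comm hms a]
    _ = m⁻¹ * (l⁻¹ * m) * (a * y) * b * a⁻¹ * b⁻¹ := by group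
    _ = m⁻¹ * (m * l⁻¹) * (l * y * a) * b * a⁻¹ * b⁻¹ := by rw [scal_comm hli m, h1]
    _ = y * (a * b * a⁻¹ * b⁻¹) := by group

theorem comm_scalars : IsMulCommutative (scalars (Fin d) F) :=
  ⟨⟨fun a b => Subtype.ext (scal_comm a.2 _)⟩⟩

/-- Composition length of a group of `E`-centralising elements. -/
theorem clen_cent_le [Finite F] (hd : 0 < d) {E C : Subgroup (GL (Fin d) F)}
    (hE : ActsAbsolutelyIrreducibly (matrixSet E)) (hEC : E ≤ C)
    (hC : ∀ c ∈ C, ∀ y ∈ E, c * y * c⁻¹ * y⁻¹ ∈ scalars (Fin d) F) :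
    clen C ≤ clen Fˣ + ArithmeticFunction.cardFactors (d ^ 2) := by
  have hne : Nonempty (Fin d) := ⟨⟨0, hd⟩⟩
  have hCa := absIrr_mono hEC hE
  have hcc := comm_of_act hE hC
  have h1 := card_quotient_scalars hCa hcc
  rw [Fintype.card_fin] at h1
  have hcomm := comm_scalars (F := F) (d := d)
  have hn : ((scalars (Fin d) F).subgroupOf C).Normal := inferInstance
  rw [clen_quotient ((scalars (Fin d) F).subgroupOf C)]
  apply Nat.add_le_add
  · rw [← clen_scalars (F := F) hd]
    let f : (scalars (Fin d) F).subgroupOf C →* scalars (Fin d) F :=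
      { toFun := fun x => ⟨((x : C) : GL (Fin d) F), x.2⟩
        map_one' := rfl
        map_mul' := fun _ _ => rfl }
    refine clen_le_of_injective f ?_ inferInstance
    intro x y hxy
    apply Subtype.ext; apply Subtype.ext
    exact congrArg (fun w : scalars (Fin d) F => (w : GL (Fin d) F)) hxy
  · rw [← h1]
    exact clen_le_cardFactors

/-- Conjugation by an element of `H` on a normalised subgroup. -/
def cE {H E : Subgroup (GL (Fin d) F)} (hE : ∀ h ∈ H, ∀ x ∈ E, h * x * h⁻¹ ∈ E) : H →* MulAut E where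
  toFun h :=
    { toFun := fun x => ⟨(h : GL (Fin d) F) * x * (h : GL (Fin d) F)⁻¹, hE h h.2 x x.2⟩
      invFun := fun x => ⟨(h : GL (Fin d) F)⁻¹ * x * (h : GL (Fin d) F), by
        have := hE h⁻¹ (H.inv_mem h.2) x x.2
        rwa [inv_inv] at this⟩
      left_inv := fun x => by apply Subtype.ext; simp [mul_assoc]
      right_inv := fun x => by apply Subtype.ext; simp [mul_assoc]
      map_mul' := fun x y => by apply Subtype.ext; simp [mul_assoc] }
  map_one' := by ext x; simp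
  map_mul' g h := by ext x; simp [mul_assoc]

theorem cE_coe {H E : Subgroup (GL (Fin d) F)} (hE : ∀ h ∈ H, ∀ x ∈ E, h * x * h⁻¹ ∈ E) (h : H)
    (x : E) : ((cE hE h x : E) : GL (Fin d) F) = (h : GL (Fin d) F) * x * (h : GL (Fin d) F)⁻¹ := rfl

theorem cE_map {H E : Subgroup (GL (Fin d) F)} (hE : ∀ h ∈ H, ∀ x ∈ E, h * x * h⁻¹ ∈ E) (h : H) :
    ((scalars (Fin d) F).subgroupOf E).map ((cE hE h : E ≃* E) : E →* E) =
      (scalars (Fin d) F).subgroupOf E := by
  have key : ∀ h : H, ∀ x ∈ (scalars (Fin d) F).subgroupOf E,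
      cE hE h x ∈ (scalars (Fin d) F).subgroupOf E := by
    intro h x hx
    exact (scalars_normal (ι := Fin d) (F := F)).conj_mem _ hx h
  apply le_antisymm
  · rintro _ ⟨x, hx, rfl⟩
    exact key h x hx
  · intro x hx
    refine ⟨cE hE h⁻¹ x, key h⁻¹ x hx, ?_⟩
    change cE hE h (cE hE h⁻¹ x) = x
    rw [← MulAut.mul_apply, ← map_mul, mul_inv_cancel, map_one]
    rfl

/-- The action on `E` modulo scalars. -/
def qE {H E : Subgroup (GL (Fin d) F)} (hE : ∀ h ∈ H, ∀ x ∈ E, h * x * h⁻¹ ∈ E) :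
    H →* MulAut (E ⧸ (scalars (Fin d) F).subgroupOf E) where
  toFun h := QuotientGroup.congr _ _ (cE hE h) (cE_map hE h)
  map_one' := by
    apply MulEquiv.ext; intro q
    induction q using QuotientGroup.induction_on with
    | H x =>
      rw [QuotientGroup.congr_mk, map_one]; rfl
  map_mul' g h := by
    apply MulEquiv.ext; intro q
    induction q using QuotientGroup.induction_on with
    | H x =>
      rw [MulAut.mul_apply, QuotientGroup.congr_mk, QuotientGroup.congr_mk, QuotientGroup.congr_mk,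
        map_mul]; rfl

theorem qE_mk {H E : Subgroup (GL (Fin d) F)} (hE : ∀ h ∈ H, ∀ x ∈ E, h * x * h⁻¹ ∈ E) (h : H)
    (x : E) : qE hE h (QuotientGroup.mk x) = QuotientGroup.mk (cE hE h x) :=
  QuotientGroup.congr_mk _ _ _ (cE_map hE h) _

/-- Conclusion of the symplectic type case. -/
theorem symp_aux {F : Type u} [Field F] [Fintype F] {d : ℕ} (hd : 2 ≤ d)
    {H : Subgroup (GL (Fin d) F)}
    (hspan : ∀ N : Subgroup (GL (Fin d) F), N ≤ H → (∀ h ∈ H, ∀ x ∈ N, h * x * h⁻¹ ∈ N) →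
      N ≤ scalars (Fin d) F ∨ ActsAbsolutelyIrreducibly (matrixSet N))
    {N : Subgroup (GL (Fin d) F)} (hNH : N ≤ H) (hN : ∀ h ∈ H, ∀ x ∈ N, h * x * h⁻¹ ∈ N)
    (hns : ¬ N ≤ scalars (Fin d) F)
    (hcomm : ∀ x ∈ N, ∀ y ∈ N, x * y * x⁻¹ * y⁻¹ ∈ scalars (Fin d) F)
    (hcl1 : ∀ m, 1 ≤ m → m < d → ∀ M, Claim.{u} m M) (hcl2 : ∀ M, M < Nat.card H → Claim.{u} d M) :
    ∃ r m c : ℕ, r.Prime ∧ 1 ≤ m ∧ d = r ^ m ∧ r ∣ Fintype.card F - 1 ∧
      (c : ℝ) ≤ bd r (2 * m) 1 ∧ clen H ≤ clen Fˣ + 2 * m + c ∧ (r = 3 → m = 1 → c ≤ 4) := by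
  classical
  obtain ⟨E, hEN, hE, hEns, hEmin⟩ := Cfsg.Agent.H919.exists_minimal_nonscalar H N hns hN
  have hEH : E ≤ H := hEN.trans hNH
  have hEcomm : ∀ x ∈ E, ∀ y ∈ E, x * y * x⁻¹ * y⁻¹ ∈ scalars (Fin d) F := fun x hx y hy =>
    hcomm x (hEN hx) y (hEN hy)
  have hEabs := (hspan E hEH hE).resolve_left hEns
  obtain ⟨r, hr, x₀, hx₀, hx₀s, hx₀r⟩ := exists_prime_pow_scalar hEns
  have hpowE : powScalar E r hEcomm = E := by
    apply hEmin
    · intro x hx; exact hx.1
    · intro h hh x hx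
      refine ⟨hE h hh x hx.1, ?_⟩
      have h1 : (h * x * h⁻¹) ^ r = h * x ^ r * h⁻¹ := conj_pow
      rw [h1]
      exact (scalars_normal (ι := Fin d) (F := F)).conj_mem _ hx.2 h
    · intro h
      exact hx₀s (h ⟨hx₀, hx₀r⟩)
  have hEr : ∀ x ∈ E, x ^ r ∈ scalars (Fin d) F := by
    intro x hx
    rw [← hpowE] at hx
    exact hx.2
  have hne : Nonempty (Fin d) := ⟨⟨0, by omega⟩⟩
  -- the quotient
  let Z := (scalars (Fin d) F).subgroupOf E
  let Q := E ⧸ Z
  have hcardQ : Nat.card Q = d ^ 2 := by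
    have := card_quotient_scalars hEabs hEcomm
    rwa [Fintype.card_fin] at this
  let cg : CommGroup Q :=
    { (inferInstance : Group Q) with
      mul_comm := by
        intro a b
        induction a using QuotientGroup.induction_on with
        | H x =>
          induction b using QuotientGroup.induction_on with
          | H y =>
            rw [← QuotientGroup.mk_mul, ← QuotientGroup.mk_mul, QuotientGroup.eq]
            change ((x * y)⁻¹ * (y * x) : E).1 ∈ scalars (Fin d) F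
            have h1 := hEcomm _ (E.inv_mem y.2) _ (E.inv_mem x.2)
            have h2 : (((x * y)⁻¹ * (y * x) : E) : GL (Fin d) F) =
                (y : GL (Fin d) F)⁻¹ * (x : GL (Fin d) F)⁻¹ * (y : GL (Fin d) F)⁻¹⁻¹ *
                  (x : GL (Fin d) F)⁻¹⁻¹ := by
              push_cast; group
            rw [h2]; exact h1 }
  have hexp : ∀ q : Q, q ^ r = 1 := by
    intro q
    induction q using QuotientGroup.induction_on with
    | H x =>
      rw [← QuotientGroup.mk_pow, QuotientGroup.eq_one_iff]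
      exact hEr x x.2
  obtain ⟨k, hk⟩ : ∃ k, Nat.card Q = r ^ k := by
    have hrp : Fact r.Prime := ⟨hr⟩
    have : IsPGroup r Q := fun q => ⟨1, by rw [pow_one]; exact hexp q⟩
    exact (IsPGroup.iff_card (p := r)).1 this
  obtain ⟨m, -, hdm⟩ : ∃ m, m ≤ k ∧ d = r ^ m := by
    apply (Nat.dvd_prime_pow hr).1
    rw [← hk, hcardQ]
    exact dvd_pow_self d (by norm_num)
  have hk2 : k = 2 * m := by
    rw [hcardQ, hdm, ← pow_mul] at hk
    have := Nat.pow_right_injective hr.two_le hk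
    omega
  have hm1 : 1 ≤ m := by
    rcases Nat.eq_zero_or_pos m with h | h
    · rw [h, pow_zero] at hdm; omega
    · exact h
  -- the action
  let f := qE hE
  have hfirr : ∀ L : Subgroup Q, (∀ h, ∀ x ∈ L, f h x ∈ L) → L = ⊥ ∨ L = ⊤ := by
    intro L hL
    let L' : Subgroup (GL (Fin d) F) := (L.comap (QuotientGroup.mk' Z)).map E.subtype
    have hL'E : L' ≤ E := by
      rintro _ ⟨x, _, rfl⟩; exact x.2
    have hL'n : ∀ h ∈ H, ∀ x ∈ L', h * x * h⁻¹ ∈ L' := by
      rintro h hh _ ⟨x, hx, rfl⟩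
      refine ⟨cE hE ⟨h, hh⟩ x, ?_, rfl⟩
      have h1 := hL ⟨h, hh⟩ _ hx
      exact h1
    by_cases hs : L' ≤ scalars (Fin d) F
    · left
      rw [eq_bot_iff]
      intro q hq
      induction q using QuotientGroup.induction_on with
      | H x =>
        rw [Subgroup.mem_bot, QuotientGroup.eq_one_iff]
        exact hs ⟨x, hq, rfl⟩
    · right
      have h1 := hEmin L' hL'E hL'n hs
      rw [eq_top_iff]
      intro q _
      induction q using QuotientGroup.induction_on with
      | H x =>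
        have h2 : (x : GL (Fin d) F) ∈ L' := by rw [h1]; exact x.2
        obtain ⟨x', hx', hxx'⟩ := h2
        have : x' = x := Subtype.ext hxx'
        rw [← this]
        exact hx'
  -- the kernel
  let C : Subgroup (GL (Fin d) F) := f.ker.map H.subtype
  have hC : ∀ c ∈ C, ∀ y ∈ E, c * y * c⁻¹ * y⁻¹ ∈ scalars (Fin d) F := by
    rintro _ ⟨c, hc, rfl⟩ y hy
    have h1 : f c (QuotientGroup.mk (⟨y, hy⟩⁻¹ : E)) = QuotientGroup.mk (⟨y, hy⟩⁻¹ : E) := by
      rw [(MonoidHom.mem_ker).1 hc]; rfl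
    have h2 : (QuotientGroup.mk (cE hE c (⟨y, hy⟩⁻¹ : E)) : Q) = QuotientGroup.mk (⟨y, hy⟩⁻¹ : E) := by
      rw [← qE_mk hE]; exact h1
    rw [QuotientGroup.eq] at h2
    have h3 : (((cE hE c (⟨y, hy⟩⁻¹ : E))⁻¹ * (⟨y, hy⟩⁻¹ : E) : E) : GL (Fin d) F) =
        (c : GL (Fin d) F) * y * (c : GL (Fin d) F)⁻¹ * y⁻¹ := by
      change ((c : GL (Fin d) F) * y⁻¹ * (c : GL (Fin d) F)⁻¹)⁻¹ * y⁻¹ = _
      group
    have h4 : (((cE hE c (⟨y, hy⟩⁻¹ : E))⁻¹ * (⟨y, hy⟩⁻¹ : E) : E) : GL (Fin d) F) ∈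
        scalars (Fin d) F := h2
    rw [h3] at h4
    exact h4
  have hEC : E ≤ C := by
    intro x hx
    refine ⟨⟨x, hEH hx⟩, ?_, rfl⟩
    change f ⟨x, hEH hx⟩ = 1
    apply MulEquiv.ext; intro q
    induction q using QuotientGroup.induction_on with
    | H y =>
      change qE hE ⟨x, hEH hx⟩ (QuotientGroup.mk y) = QuotientGroup.mk y
      rw [qE_mk, QuotientGroup.eq]
      have h1 := hEcomm _ hx _ (E.inv_mem y.2)
      have h2 : (((cE hE ⟨x, hEH hx⟩ y)⁻¹ * y : E) : GL (Fin d) F) =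
          x * (y : GL (Fin d) F)⁻¹ * x⁻¹ * (y : GL (Fin d) F)⁻¹⁻¹ := by
        change (x * (y : GL (Fin d) F) * x⁻¹)⁻¹ * (y : GL (Fin d) F) = _
        group
      change (((cE hE ⟨x, hEH hx⟩ y)⁻¹ * y : E) : GL (Fin d) F) ∈ scalars (Fin d) F
      rw [h2]; exact h1
  have hclC : clen f.ker ≤ clen Fˣ + 2 * m := by
    have h1 : clen f.ker = clen C :=
      clen_congr (f.ker.equivMapOfInjective H.subtype (Subgroup.subtype_injective H))
    have h2 := clen_cent_le (F := F) (by omega : 0 < d) hEabs hEC hC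
    have h3 : ArithmeticFunction.cardFactors (d ^ 2) = 2 * m := by
      rw [hdm, ← pow_mul, ArithmeticFunction.cardFactors_apply_prime_pow hr]; ring
    rw [h1]; rw [h3] at h2; exact h2
  -- orders
  have hrange : Nat.card f.range < Nat.card H := by
    have h1 : Nat.card f.ker * Nat.card f.range = Nat.card H := by
      rw [← Subgroup.index_ker f, Subgroup.card_mul_index]
    have h2 : 1 < Nat.card f.ker := by
      by_contra hcon
      have h3 : Nat.card f.ker = 1 := by
        have : 0 < Nat.card f.ker := Nat.card_pos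
        omega
      have h4 : f.ker = ⊥ := Subgroup.card_eq_one.1 h3
      apply hEns
      intro x hx
      obtain ⟨c, hc, rfl⟩ := hEC hx
      have h5 : c ∈ f.ker := hc
      rw [h4, Subgroup.mem_bot] at h5
      rw [h5]
      exact Subgroup.one_mem _
    have h3 : 0 < Nat.card f.range := Nat.card_pos
    nlinarith
  -- the noncommuting pair
  obtain ⟨x, hx, y, hy, hxy⟩ : ∃ x ∈ E, ∃ y ∈ E, x * y ≠ y * x := by
    by_contra hcon
    push Not at hcon
    exact hEns (le_scalars_of_comm hEabs hcon)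
  set s : GL (Fin d) F := y * x * y⁻¹ * x⁻¹ with hs
  have hss : s ∈ scalars (Fin d) F := hEcomm y hy x hx
  have hsr : s ^ r = 1 := commutator_pow (hEr y hy) hss
  have hs1 : s ≠ 1 := by
    intro h
    apply hxy
    have : y * x = s * (x * y) := by rw [hs]; group
    rw [this, h, one_mul]
  have hdvd : r ∣ Fintype.card F - 1 := by
    obtain ⟨c, hc⟩ := (mem_scalars_iff s).1 hss
    have hcs : s = (Units.map (Matrix.scalar (Fin d) : F →+* Matrix (Fin d) (Fin d) F).toMonoidHom) c := by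
      apply Units.ext
      rw [hc]
      simp [Matrix.smul_one_eq_diagonal]
    have hinj : Function.Injective
        (Units.map (Matrix.scalar (Fin d) : F →+* Matrix (Fin d) (Fin d) F).toMonoidHom) := by
      apply Units.map_injective
      exact (Matrix.scalar (Fin d) : F →+* Matrix (Fin d) (Fin d) F).injective
    have h1 : c ^ r = 1 := by
      apply hinj
      rw [map_pow, map_one, ← hcs, hsr]
    have h2 : c ≠ 1 := by
      rintro rfl
      rw [map_one] at hcs
      exact hs1 hcs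
    have hrp : Fact r.Prime := ⟨hr⟩
    have h3 : orderOf c = r := orderOf_eq_prime h1 h2
    have h4 : orderOf c ∣ Fintype.card Fˣ := orderOf_dvd_card
    rwa [h3, Fintype.card_units] at h4
  -- the bound for the range
  have hcl : (clen f.range : ℝ) ≤ bd r (2 * m) 1 := by
    have h2m : 2 * m ≤ d := by
      rw [hdm]
      have h1 : m + 1 ≤ 2 ^ m := Nat.lt_two_pow_self
      have h2 : 2 ^ m ≤ r ^ m := Nat.pow_le_pow_left hr.two_le m
      have h3 : 2 * m ≤ 2 ^ m := by
        clear h2 h1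
        obtain ⟨j, rfl⟩ := Nat.exists_eq_add_of_le' hm1
        have h4 : j + 1 ≤ 2 ^ j := Nat.lt_two_pow_self
        rw [pow_succ]; omega
      omega
    rw [← hk2]
    refine clen_mulAut_le (N := Nat.card f.range) hr hexp hk f hfirr ?_ le_rfl
    rcases Nat.lt_or_ge k d with h | h
    · exact hcl1 k (by omega) h _
    · have h1 : k = d := by omega
      rw [h1]
      exact hcl2 _ hrange
  refine ⟨r, m, clen f.range, hr, hm1, hdm, hdvd, hcl, ?_, ?_⟩
  · rw [clen_range f]; omega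
  · intro h3 hm
    -- the commutator pairing
    let out : Q → GL (Fin d) F := fun q => ((Quotient.out q : E) : GL (Fin d) F)
    have hout : ∀ q, out q ∈ E := fun q => (Quotient.out q : E).2
    have houtmk : ∀ x : E, ∃ z ∈ scalars (Fin d) F, out (QuotientGroup.mk x) = x * z := by
      intro x
      have h1 : (QuotientGroup.mk (Quotient.out (QuotientGroup.mk x : Q)) : Q) = QuotientGroup.mk x :=
        QuotientGroup.out_eq' _
      rw [eq_comm, QuotientGroup.eq] at h1
      refine ⟨_, h1, ?_⟩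
      change _ = (x : GL (Fin d) F) * ((x : GL (Fin d) F)⁻¹ * out (QuotientGroup.mk x))
      group
    let cm : GL (Fin d) F → GL (Fin d) F → GL (Fin d) F := fun a b => a * b * a⁻¹ * b⁻¹
    have hcmz : ∀ a b z w : GL (Fin d) F, z ∈ scalars (Fin d) F → w ∈ scalars (Fin d) F →
        cm (a * z) (b * w) = cm a b := by
      intro a b z w hz hw
      change a * z * (b * w) * (a * z)⁻¹ * (b * w)⁻¹ = a * b * a⁻¹ * b⁻¹
      calc a * z * (b * w) * (a * z)⁻¹ * (b * w)⁻¹
          = a * (z * (b * w)) * z⁻¹ * a⁻¹ * w⁻¹ * b⁻¹ := by group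
        _ = a * ((b * w) * z) * z⁻¹ * a⁻¹ * w⁻¹ * b⁻¹ := by rw [scal_comm hz (b * w)]
        _ = a * b * (w * a⁻¹) * w⁻¹ * b⁻¹ := by group
        _ = a * b * (a⁻¹ * w) * w⁻¹ * b⁻¹ := by rw [scal_comm hw a⁻¹]
        _ = _ := by group
    let β : Q → Q → GL (Fin d) F := fun a b => cm (out a) (out b)
    have hβmk : ∀ a b : E, β (QuotientGroup.mk a) (QuotientGroup.mk b) = cm a b := by
      intro a b
      obtain ⟨z, hz, hz'⟩ := houtmk a
      obtain ⟨w, hw, hw'⟩ := houtmk b
      change cm (out _) (out _) = _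
      rw [hz', hw', hcmz _ _ _ _ hz hw]
    have hβmul : ∀ a b c, β a (b * c) = β a b * β a c := by
      intro a b c
      induction a using QuotientGroup.induction_on with
      | H a =>
        induction b using QuotientGroup.induction_on with
        | H b =>
          induction c using QuotientGroup.induction_on with
          | H c =>
            rw [← QuotientGroup.mk_mul, hβmk, hβmk, hβmk]
            have hz := hEcomm a a.2 c c.2
            change (a : GL (Fin d) F) * ((b : GL (Fin d) F) * c) * (a : GL (Fin d) F)⁻¹ *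
              ((b : GL (Fin d) F) * c)⁻¹ = (a * b * (a : GL (Fin d) F)⁻¹ * (b : GL (Fin d) F)⁻¹) *
                (a * c * (a : GL (Fin d) F)⁻¹ * (c : GL (Fin d) F)⁻¹)
            have h1 := scal_comm hz ((b : GL (Fin d) F)⁻¹)
            calc (a : GL (Fin d) F) * ((b : GL (Fin d) F) * c) * (a : GL (Fin d) F)⁻¹ *
                  ((b : GL (Fin d) F) * c)⁻¹
                = (a * b * (a : GL (Fin d) F)⁻¹) *
                  ((a * c * (a : GL (Fin d) F)⁻¹ * (c : GL (Fin d) F)⁻¹) * (b : GL (Fin d) F)⁻¹) := by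
                  group
              _ = (a * b * (a : GL (Fin d) F)⁻¹) *
                  ((b : GL (Fin d) F)⁻¹ * (a * c * (a : GL (Fin d) F)⁻¹ * (c : GL (Fin d) F)⁻¹)) := by
                  rw [h1]
              _ = _ := by group
    have hβone : ∀ a, β a a = 1 := by
      intro a
      change out a * out a * (out a)⁻¹ * (out a)⁻¹ = 1
      group
    have hβone' : ∀ b, β 1 b = 1 := by
      intro b
      induction b using QuotientGroup.induction_on with
      | H b =>
        have : (1 : Q) = QuotientGroup.mk (1 : E) := rfl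
        rw [this, hβmk]
        change ((1 : E) : GL (Fin d) F) * b * ((1 : E) : GL (Fin d) F)⁻¹ * (b : GL (Fin d) F)⁻¹ = 1
        simp
    have hcard9 : Nat.card Q = 9 := by
      rw [hcardQ, hdm, h3, hm]; norm_num
    have hle := card_le_24 hcard9 β hβmul hβone hβone'
      (x := QuotientGroup.mk ⟨y, hy⟩) (y := QuotientGroup.mk ⟨x, hx⟩)
      (by rw [hβmk]; exact hs1) f.range (by
        rintro _ ⟨h, rfl⟩ a b
        induction a using QuotientGroup.induction_on with
        | H a =>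
          induction b using QuotientGroup.induction_on with
          | H b =>
            change β (qE hE h (QuotientGroup.mk a)) (qE hE h (QuotientGroup.mk b)) = _
            rw [qE_mk, qE_mk, hβmk, hβmk, cE_coe, cE_coe]
            have hz := hEcomm a a.2 b b.2
            change ((h : GL (Fin d) F) * a * (h : GL (Fin d) F)⁻¹) *
              ((h : GL (Fin d) F) * b * (h : GL (Fin d) F)⁻¹) *
              ((h : GL (Fin d) F) * a * (h : GL (Fin d) F)⁻¹)⁻¹ *
              ((h : GL (Fin d) F) * b * (h : GL (Fin d) F)⁻¹)⁻¹ =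
                (a : GL (Fin d) F) * b * (a : GL (Fin d) F)⁻¹ * (b : GL (Fin d) F)⁻¹
            calc _ = (h : GL (Fin d) F) * ((a : GL (Fin d) F) * b * (a : GL (Fin d) F)⁻¹ *
                  (b : GL (Fin d) F)⁻¹) * (h : GL (Fin d) F)⁻¹ := by group
              _ = ((a : GL (Fin d) F) * b * (a : GL (Fin d) F)⁻¹ * (b : GL (Fin d) F)⁻¹) *
                  (h : GL (Fin d) F) * (h : GL (Fin d) F)⁻¹ := by rw [scal_comm hz h]
              _ = _ := by group)
    by_contra hcon
    have h5 : 5 ≤ clen f.range := by omega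
    have h6 : 2 ^ 5 ≤ 2 ^ clen f.range := Nat.pow_le_pow_right (by norm_num) h5
    have h7 : 2 ^ clen f.range ≤ 24 := (two_pow_clen_le (G := f.range)).trans hle
    omega

end

end Cfsg.Agent.H894
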