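import Cfsg.Agent.H894.CompField

/-!
# Composition length: linear groups preserving a tensor decomposition
-/

set_option autoImplicit false

namespace Cfsg.Agent.H894

open Cfsg Cfsg.Geo Matrix Cfsg.Agent.H893 Cfsg.Agent.H912
open scoped Kronecker

universe u v w

section

variable {F : Type u} [Field F] {d n₁ n₂ : ℕ}

theorem tens_apply_P (e : Fin d ≃ Fin n₁ × Fin n₂) (P : GL (Fin d) F)
    (a : Matrix (Fin n₁) (Fin n₁) F) (b : Matrix (Fin n₂) (Fin n₂) F) (w : Fin d → F)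
    (i : Fin n₁) (j : Fin n₂) :
    (((P⁻¹ : GL (Fin d) F) : Matrix (Fin d) (Fin d) F) *ᵥ (tens e P a b *ᵥ w)) (e.symm (i, j)) =
      ∑ j', b j j' * (a *ᵥ (fun i' =>
        (((P⁻¹ : GL (Fin d) F) : Matrix (Fin d) (Fin d) F) *ᵥ w) (e.symm (i', j')))) i := by
  have h1 : ((P⁻¹ : GL (Fin d) F) : Matrix (Fin d) (Fin d) F) *ᵥ (tens e P a b *ᵥ w) =
      (Matrix.reindexAlgEquiv F F e.symm (a ⊗ₖ b)) *ᵥ
        (((P⁻¹ : GL (Fin d) F) : Matrix (Fin d) (Fin d) F) *ᵥ w) := by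
    unfold tens
    rw [mulVec_mulVec, mulVec_mulVec, ← mul_assoc, ← mul_assoc, ← Units.val_mul, inv_mul_cancel,
      Units.val_one, one_mul]
  rw [h1]
  set w' := ((P⁻¹ : GL (Fin d) F) : Matrix (Fin d) (Fin d) F) *ᵥ w
  rw [mulVec, dotProduct, ← e.symm.sum_comp, Fintype.sum_prod_type, Finset.sum_comm]
  refine Finset.sum_congr rfl fun j' _ => ?_
  rw [mulVec, dotProduct, Finset.mul_sum]
  refine Finset.sum_congr rfl fun i' _ => ?_
  rw [Matrix.reindexAlgEquiv_apply, Matrix.reindex_apply, Matrix.submatrix_apply, Equiv.symm_symm,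
    Equiv.apply_symm_apply, Equiv.apply_symm_apply, Matrix.kroneckerMap_apply]
  ring

theorem irr_fst (e : Fin d ≃ Fin n₁ × Fin n₂) (P : GL (Fin d) F) (hn₂ : 0 < n₂)
    {K : Subgroup (GL (Fin d) F)} (hirr : ActsIrreducibly (matrixSet K))
    (U : Submodule F (Fin n₁ → F))
    (hK : ∀ k ∈ K, ∃ (a : Matrix (Fin n₁) (Fin n₁) F) (b : Matrix (Fin n₂) (Fin n₂) F),
      (k : Matrix (Fin d) (Fin d) F) = tens e P a b ∧ ∀ u ∈ U, a *ᵥ u ∈ U) :
    U = ⊥ ∨ U = ⊤ := by
  classical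
  let sl : (Fin d → F) → Fin n₂ → (Fin n₁ → F) := fun v j i =>
    (((P⁻¹ : GL (Fin d) F) : Matrix (Fin d) (Fin d) F) *ᵥ v) (e.symm (i, j))
  let W : Submodule F (Fin d → F) :=
    { carrier := {v | ∀ j, sl v j ∈ U}
      add_mem' := by
        intro x y hx hy j
        have : sl (x + y) j = sl x j + sl y j := by
          funext i; simp only [sl, mulVec_add, Pi.add_apply]
        rw [this]; exact U.add_mem (hx j) (hy j)
      zero_mem' := by
        intro j
        have : sl 0 j = 0 := by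
          funext i; simp only [sl, mulVec_zero, Pi.zero_apply]
        rw [this]; exact U.zero_mem
      smul_mem' := by
        intro c x hx j
        have : sl (c • x) j = c • sl x j := by
          funext i; simp only [sl, mulVec_smul, Pi.smul_apply]
        rw [this]; exact U.smul_mem c (hx j) }
  have hW : ∀ v, v ∈ W ↔ ∀ j, sl v j ∈ U := fun v => Iff.rfl
  -- pure vectors
  let pv : (Fin n₁ → F) → Fin n₂ → (Fin d → F) := fun u j =>
    (P : Matrix (Fin d) (Fin d) F) *ᵥ (fun x => if (e x).2 = j then u (e x).1 else 0)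
  have hpv : ∀ u j j', sl (pv u j) j' = if j' = j then u else 0 := by
    intro u j j'
    funext i
    simp only [sl, pv]
    rw [mulVec_mulVec, ← Units.val_mul, inv_mul_cancel, Units.val_one, one_mulVec]
    rw [Equiv.apply_symm_apply]
    by_cases h : j' = j
    · rw [if_pos h, if_pos h]
    · rw [if_neg h, if_neg h]; rfl
  let j₀ : Fin n₂ := ⟨0, hn₂⟩
  rcases hirr W (by
    rintro _ ⟨k, hk, rfl⟩ _ ⟨v, hv, rfl⟩
    obtain ⟨a, b, hkab, hU⟩ := hK k hk
    rw [hW]
    intro j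
    rw [Matrix.toLin'_apply]
    have h1 : sl ((k : Matrix (Fin d) (Fin d) F) *ᵥ v) j = ∑ j', b j j' • (a *ᵥ sl v j') := by
      funext i
      simp only [sl]
      rw [hkab, tens_apply_P, Finset.sum_apply]
      rfl
    rw [h1]
    exact U.sum_mem fun j' _ => U.smul_mem _ (hU _ ((hW v).1 hv j'))) with h | h
  · left
    rw [eq_bot_iff]
    intro u hu
    have h1 : pv u j₀ ∈ W := by
      rw [hW]; intro j'
      rw [hpv]
      by_cases h : j' = j₀
      · rw [if_pos h]; exact hu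
      · rw [if_neg h]; exact U.zero_mem
    rw [h, Submodule.mem_bot] at h1
    have h2 := hpv u j₀ j₀
    rw [h1, if_pos rfl] at h2
    rw [Submodule.mem_bot, ← h2]
    funext i; simp only [sl, mulVec_zero, Pi.zero_apply]
  · right
    rw [eq_top_iff]
    intro u _
    have h1 : pv u j₀ ∈ W := by rw [h]; trivial
    have h2 := (hW _).1 h1 j₀
    rwa [hpv, if_pos rfl] at h2

theorem tens_swap (e : Fin d ≃ Fin n₁ × Fin n₂) (P : GL (Fin d) F)
    (a : Matrix (Fin n₁) (Fin n₁) F) (b : Matrix (Fin n₂) (Fin n₂) F) :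
    tens e P a b = tens (e.trans (Equiv.prodComm _ _)) P b a := by
  unfold tens
  congr 2
  ext x y
  rw [Matrix.reindexAlgEquiv_apply, Matrix.reindex_apply, Matrix.submatrix_apply,
    Matrix.reindexAlgEquiv_apply, Matrix.reindex_apply, Matrix.submatrix_apply,
    Matrix.kroneckerMap_apply, Matrix.kroneckerMap_apply]
  exact mul_comm _ _

/-- The tensor product map on invertible matrices. -/
def tensHom (e : Fin d ≃ Fin n₁ × Fin n₂) (P : GL (Fin d) F) :
    GL (Fin n₁) F × GL (Fin n₂) F →* GL (Fin d) F where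
  toFun x :=
    { val := tens e P (x.1 : Matrix (Fin n₁) (Fin n₁) F) (x.2 : Matrix (Fin n₂) (Fin n₂) F)
      inv := tens e P ((x.1⁻¹ : GL (Fin n₁) F) : Matrix (Fin n₁) (Fin n₁) F)
        ((x.2⁻¹ : GL (Fin n₂) F) : Matrix (Fin n₂) (Fin n₂) F)
      val_inv := by
        rw [tens_mul, ← Units.val_mul, ← Units.val_mul, mul_inv_cancel, mul_inv_cancel,
          Units.val_one, Units.val_one, tens_one]
      inv_val := by
        rw [tens_mul, ← Units.val_mul, ← Units.val_mul, inv_mul_cancel, inv_mul_cancel,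
          Units.val_one, Units.val_one, tens_one] }
  map_one' := Units.ext (tens_one e P)
  map_mul' x y := by
    apply Units.ext
    change tens e P ((x.1 * y.1 : GL (Fin n₁) F) : Matrix (Fin n₁) (Fin n₁) F)
      ((x.2 * y.2 : GL (Fin n₂) F) : Matrix (Fin n₂) (Fin n₂) F) =
        tens e P (x.1 : Matrix (Fin n₁) (Fin n₁) F) (x.2 : Matrix (Fin n₂) (Fin n₂) F) *
        tens e P (y.1 : Matrix (Fin n₁) (Fin n₁) F) (y.2 : Matrix (Fin n₂) (Fin n₂) F)
    rw [tens_mul, Units.val_mul, Units.val_mul]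

theorem tensHom_val (e : Fin d ≃ Fin n₁ × Fin n₂) (P : GL (Fin d) F)
    (x : GL (Fin n₁) F × GL (Fin n₂) F) : (tensHom e P x : Matrix (Fin d) (Fin d) F) =
      tens e P (x.1 : Matrix (Fin n₁) (Fin n₁) F) (x.2 : Matrix (Fin n₂) (Fin n₂) F) := rfl

theorem exists_of_mem_tensorProductSubgroup {e : Fin d ≃ Fin n₁ × Fin n₂} {P : GL (Fin d) F}
    {k : GL (Fin d) F} (hk : k ∈ tensorProductSubgroup n₁ n₂ e P) :
    ∃ x, tensHom e P x = k := by
  obtain ⟨_, ⟨g, ⟨a, b, hg⟩, rfl⟩, rfl⟩ := hk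
  refine ⟨(a, b), ?_⟩
  apply Units.ext
  rw [tensHom_val]
  unfold tens
  change _ = (P : Matrix (Fin d) (Fin d) F) * (Matrix.reindexAlgEquiv F F e.symm g) *
    ((P⁻¹ : GL (Fin d) F) : Matrix (Fin d) (Fin d) F)
  rw [hg]

theorem clen_le_add_of_two {L Q₁ Q₂ : Type*} [Group L] [Group Q₁] [Group Q₂] [Finite L]
    (f₁ : L →* Q₁) (f₂ : L →* Q₂) (h : ∀ x, f₁ x = 1 → f₂ x = 1 → x = 1) :
    clen L ≤ clen f₁.range + clen f₂.range := by
  rw [clen_range f₁]
  have h1 : clen f₁.ker ≤ clen f₂.range := by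
    have hinj : Function.Injective (f₂.comp f₁.ker.subtype) := by
      rw [injective_iff_map_eq_one]
      intro x hx
      exact Subtype.ext (h x x.2 hx)
    have h2 := clen_congr (MonoidHom.ofInjective hinj)
    have h3 : (f₂.comp f₁.ker.subtype).range = f₁.ker.map f₂ := by
      ext y
      constructor
      · rintro ⟨x, rfl⟩; exact ⟨x, x.2, rfl⟩
      · rintro ⟨x, hx, rfl⟩; exact ⟨⟨x, hx⟩, rfl⟩
    rw [h2, h3]
    exact clen_map_le_of_normal f₂ _ (MonoidHom.normal_ker f₁)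
  omega

theorem tensor_aux [Finite F] {K : Subgroup (GL (Fin d) F)}
    (hirr : ActsIrreducibly (matrixSet K)) (e : Fin d ≃ Fin n₁ × Fin n₂) (P : GL (Fin d) F)
    (h1 : 0 < n₁) (h2 : 0 < n₂) (hK : K ≤ tensorProductSubgroup n₁ n₂ e P) :
    ∃ (L₁ : Subgroup (GL (Fin n₁) F)) (L₂ : Subgroup (GL (Fin n₂) F)),
      ActsIrreducibly (matrixSet L₁) ∧ ActsIrreducibly (matrixSet L₂) ∧
        clen K ≤ clen L₁ + clen L₂ := by
  classical
  let L : Subgroup (GL (Fin n₁) F × GL (Fin n₂) F) := K.comap (tensHom e P)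
  let f₁ : L →* GL (Fin n₁) F := (MonoidHom.fst _ _).comp L.subtype
  let f₂ : L →* GL (Fin n₂) F := (MonoidHom.snd _ _).comp L.subtype
  have hex : ∀ k ∈ K, ∃ x : L, tensHom e P (x : GL (Fin n₁) F × GL (Fin n₂) F) = k := by
    intro k hk
    obtain ⟨x, hx⟩ := exists_of_mem_tensorProductSubgroup (hK hk)
    exact ⟨⟨x, by change tensHom e P x ∈ K; rw [hx]; exact hk⟩, hx⟩
  refine ⟨f₁.range, f₂.range, ?_, ?_, ?_⟩
  · intro U hU
    apply irr_fst e P h2 hirr U
    intro k hk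
    obtain ⟨x, hx⟩ := hex k hk
    refine ⟨_, _, by rw [← hx, tensHom_val], fun u hu => ?_⟩
    have h3 := hU _ ⟨f₁ x, ⟨x, rfl⟩, rfl⟩ ⟨u, hu, rfl⟩
    rwa [Matrix.toLin'_apply] at h3
  · intro U hU
    apply irr_fst (e.trans (Equiv.prodComm _ _)) P h1 hirr U
    intro k hk
    obtain ⟨x, hx⟩ := hex k hk
    refine ⟨_, _, by rw [← hx, tensHom_val, tens_swap], fun u hu => ?_⟩
    have h3 := hU _ ⟨f₂ x, ⟨x, rfl⟩, rfl⟩ ⟨u, hu, rfl⟩
    rwa [Matrix.toLin'_apply] at h3
  · let g : L →* K := (tensHom e P).subgroupComap K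
    have hg : Function.Surjective g := by
      rintro ⟨k, hk⟩
      obtain ⟨x, hx⟩ := hex k hk
      exact ⟨x, Subtype.ext hx⟩
    refine (clen_le_of_surjective g hg).trans (clen_le_add_of_two f₁ f₂ ?_)
    intro x hx1 hx2
    apply Subtype.ext
    exact Prod.ext hx1 hx2

end

end Cfsg.Agent.H894
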