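import Mathlib

/-!
# Numerical core for the 2-defect zero character of the fourth Janko group (helper894)

`D` the degree, `A`, `X` the values at the two classes of order 11, `a`, `b`, `s`, `u`, `w` the columns of the primes
23, 29, 31, 37, 43. The combination `F` with
`43786049417 F = 3 D - 98691321 A - 1085604531 X + 5711223837 a - 4529591319 b - 4237359621 s + 3054840657 w +
1183406741 u` is integral, of square norm 3.
-/

set_option autoImplicit false

namespace Cfsg.Agent.H894.J4Two

open Finset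

variable {ι : Type*} [Fintype ι]

theorem sum_mul_comb (f : ι → ℤ) : ∀ (L : List (ℤ × (ι → ℤ))), (∀ b ∈ L, ∑ i, f i * b.2 i = 0) →
    ∑ i, f i * (L.map fun a => a.1 * a.2 i).sum = 0
  | [], _ => by simp
  | b :: L, h => by
    have h1 := sum_mul_comb f L fun c hc => h c (List.mem_cons_of_mem _ hc)
    have h2 := h b List.mem_cons_self
    have h3 : ∀ i, f i * ((b :: L).map fun a => a.1 * a.2 i).sum =
        b.1 * (f i * b.2 i) + f i * (L.map fun a => a.1 * a.2 i).sum := by
      intro i
      rw [List.map_cons, List.sum_cons]; ring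
    rw [Finset.sum_congr rfl fun i _ => h3 i, Finset.sum_add_distrib, ← Finset.mul_sum, h1, h2]
    simp

/-- the square of a combination of pairwise orthogonal functions -/
theorem sum_sq_comb : ∀ (L : List (ℤ × (ι → ℤ))), L.Pairwise (fun a b => ∑ i, a.2 i * b.2 i = 0) →
    ∑ i, (L.map fun a => a.1 * a.2 i).sum * (L.map fun a => a.1 * a.2 i).sum =
      (L.map fun a => a.1 * a.1 * ∑ i, a.2 i * a.2 i).sum
  | [], _ => by simp
  | b :: L, h => by
    rw [List.pairwise_cons] at h
    have h1 := sum_sq_comb L h.2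
    have h2 := sum_mul_comb b.2 L h.1
    have h3 : ∀ i, ((b :: L).map fun a => a.1 * a.2 i).sum * ((b :: L).map fun a => a.1 * a.2 i).sum =
        b.1 * b.1 * (b.2 i * b.2 i) + 2 * b.1 * (b.2 i * (L.map fun a => a.1 * a.2 i).sum) +
          (L.map fun a => a.1 * a.2 i).sum * (L.map fun a => a.1 * a.2 i).sum := by
      intro i
      simp only [List.map_cons, List.sum_cons]
      ring
    rw [Finset.sum_congr rfl fun i _ => h3 i, Finset.sum_add_distrib, Finset.sum_add_distrib, ← Finset.mul_sum,
      ← Finset.mul_sum, h1, h2, mul_zero, add_zero, List.map_cons, List.sum_cons]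

/-- the combination -/
def V (D A X a b s w u : ℤ) : ℤ :=
  3 * D + -98691321 * A + -1085604531 * X + 5711223837 * a + -4529591319 * b + -4237359621 * s + 3054840657 * w +
    1183406741 * u

theorem V_dvd {D A X a b s w u : ℤ} (h23 : 23 ∣ D + 22 * a) (h29 : 29 ∣ D + 28 * b) (h31 : 31 ∣ D + 10 * s)
    (h37 : 37 ∣ D + 12 * u) (h43 : 43 ∣ D + 14 * w) (hc : 11 ∣ D + 10 * A) (hx : 11 ∣ D + 10 * X)
    (hU : 1331 ∣ D + 10 * A + 1320 * X) : 43786049417 ∣ V D A X a b s w u := by
  obtain ⟨q1, h1⟩ := hU
  obtain ⟨q2, h2⟩ := hc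
  obtain ⟨q3, h3⟩ := hx
  obtain ⟨p1, g1⟩ := h23
  obtain ⟨p2, g2⟩ := h29
  obtain ⟨p3, g3⟩ := h31
  obtain ⟨p4, g4⟩ := h37
  obtain ⟨p5, g5⟩ := h43
  have h4 : A - X = 11 * (A - X - q2 + q3) := by linear_combination h3 - h2
  have d1 : 1331 ∣ V D A X a b s w u := by
    refine ⟨3 * q1 + (-815631) * (A - X - q2 + q3) - 889782 * X + (4290927 * a - 3403149 * b - 3183591 * s +
      2295147 * w + 889111 * u), ?_⟩
    unfold V
    linear_combination 3 * h1 + 121 * (-815631) * h4
  have d2 : 23 ∣ V D A X a b s w u := by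
    refine ⟨3 * p1 + (-4290927 * A + -47200197 * X + 248314077 * a + -196938753 * b + -184233027 * s +
      132819159 * w + 51452467 * u), ?_⟩
    unfold V
    linear_combination 3 * g1
  have d3 : 29 ∣ V D A X a b s w u := by
    refine ⟨3 * p2 + (-3403149 * A + -37434639 * X + 196938753 * a + -156192807 * b + -146115849 * s +
      105339333 * w + 40807129 * u), ?_⟩
    unfold V
    linear_combination 3 * g2
  have d4 : 31 ∣ V D A X a b s w u := by
    refine ⟨3 * p3 + (-3183591 * A + -35019501 * X + 184233027 * a + -146115849 * b + -136689021 * s +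
      98543247 * w + 38174411 * u), ?_⟩
    unfold V
    linear_combination 3 * g3
  have d5 : 37 ∣ V D A X a b s w u := by
    refine ⟨3 * p4 + (-2667333 * A + -29340663 * X + 154357401 * a + -122421387 * b + -114523233 * s +
      82563261 * w + 31983965 * u), ?_⟩
    unfold V
    linear_combination 3 * g4
  have d6 : 43 ∣ V D A X a b s w u := by
    refine ⟨3 * p5 + (-2295147 * A + -25246617 * X + 132819159 * a + -105339333 * b + -98543247 * s +
      71042805 * w + 27521087 * u), ?_⟩
    unfold V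
    linear_combination 3 * g5
  have e1 : 1331 * 23 ∣ V D A X a b s w u := IsCoprime.mul_dvd (by norm_num) d1 d2
  have e2 : 1331 * 23 * 29 ∣ V D A X a b s w u := IsCoprime.mul_dvd (by norm_num) e1 d3
  have e3 : 1331 * 23 * 29 * 31 ∣ V D A X a b s w u := IsCoprime.mul_dvd (by norm_num) e2 d4
  have e4 : 1331 * 23 * 29 * 31 * 37 ∣ V D A X a b s w u := IsCoprime.mul_dvd (by norm_num) e3 d5
  have e5 : 1331 * 23 * 29 * 31 * 37 * 43 ∣ V D A X a b s w u := IsCoprime.mul_dvd (by norm_num) e4 d6
  have e6 : (43786049417 : ℤ) = 1331 * 23 * 29 * 31 * 37 * 43 := by norm_num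
  rw [e6]
  exact e5

/-- **the numerical core** -/
theorem core {D A X a b s w u : ι → ℤ} (h23 : ∀ i, 23 ∣ D i + 22 * a i) (h29 : ∀ i, 29 ∣ D i + 28 * b i)
    (h31 : ∀ i, 31 ∣ D i + 10 * s i) (h37 : ∀ i, 37 ∣ D i + 12 * u i) (h43 : ∀ i, 43 ∣ D i + 14 * w i)
    (hc : ∀ i, 11 ∣ D i + 10 * A i) (hx : ∀ i, 11 ∣ D i + 10 * X i)
    (hU : ∀ i, 1331 ∣ D i + 10 * A i + 1320 * X i)
    {y : ℤ} (hy : 1331 ∣ y - 24 → y = 24)
    (qD : ∑ i, D i * D i = 86775571046077562880) (qA : ∑ i, A i * A i = 1331 * y)
    (qX : ∑ i, X i * X i = 242) (qa : ∑ i, a i * a i = 23) (qb : ∑ i, b i * b i = 29)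
    (qs : ∑ i, s i * s i = 93) (qw : ∑ i, w i * w i = 129) (qu : ∑ i, u i * u i = 111)
    (hort : [D, A, X, a, b, s, w, u].Pairwise (fun f g : ι → ℤ => ∑ i, f i * g i = 0))
    {E : Finset ι} (hE : E.card = 3) (hEu : ∀ i ∉ E, 3 ∣ u i)
    (hpos : ∀ i, 0 < D i)
    (hconst : ∀ i ∈ E, ∀ j ∈ E, D i = D j ∧ V (D i) (A i) (X i) (a i) (b i) (s i) (w i) (u i) =
      V (D j) (A j) (X j) (a j) (b j) (s j) (w j) (u j)) :
    ∀ i ∈ E, D i = 1981808640 := by
  classical
  have hdvd := fun i => V_dvd (h23 i) (h29 i) (h31 i) (h37 i) (h43 i) (hc i) (hx i) (hU i)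
  choose F hF using hdvd
  -- the list
  let L : List (ℤ × (ι → ℤ)) := [(3, D), (-98691321, A), (-1085604531, X), (5711223837, a), (-4529591319, b),
    (-4237359621, s), (3054840657, w), (1183406741, u)]
  have hL : ∀ i, (L.map fun a => a.1 * a.2 i).sum = V (D i) (A i) (X i) (a i) (b i) (s i) (w i) (u i) := by
    intro i
    simp only [L, V, List.map_cons, List.map_nil, List.sum_cons, List.sum_nil]
    ring
  have hpw : L.Pairwise (fun a b => ∑ i, a.2 i * b.2 i = 0) := by
    have := hort
    simp only [L]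
    simp only [List.pairwise_cons, List.mem_cons, List.not_mem_nil, or_false, forall_eq_or_imp, forall_eq,
      IsEmpty.forall_iff, implies_true, List.Pairwise.nil, and_true] at this ⊢
    exact this
  have hsq := sum_sq_comb L hpw
  simp only [hL] at hsq
  simp only [L, List.map_cons, List.map_nil, List.sum_cons, List.sum_nil, qD, qA, qX, qa, qb, qs, qw, qu] at hsq
  -- the norm
  have hsq2 : ∑ i, V (D i) (A i) (X i) (a i) (b i) (s i) (w i) (u i) *
      V (D i) (A i) (X i) (a i) (b i) (s i) (w i) (u i) = 43786049417 * 43786049417 * ∑ i, F i * F i := by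
    rw [Finset.mul_sum]
    refine Finset.sum_congr rfl fun i _ => ?_
    rw [hF i]; ring
  rw [hsq2] at hsq
  have hy1 : y = 24 := hy (by omega)
  subst hy1
  have hF3 : ∑ i, F i * F i = 3 := by omega
  -- the product with the degree
  have hDV : ∑ i, D i * V (D i) (A i) (X i) (a i) (b i) (s i) (w i) (u i) = 3 * 86775571046077562880 := by
    have h1 := sum_mul_comb D L.tail (by
      simp only [L, List.tail_cons]
      have := hort
      simp only [List.pairwise_cons, List.mem_cons, List.not_mem_nil, or_false, forall_eq_or_imp, forall_eq,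
        IsEmpty.forall_iff, implies_true, List.Pairwise.nil, and_true] at this ⊢
      exact this.1)
    have h2 : ∀ i, D i * V (D i) (A i) (X i) (a i) (b i) (s i) (w i) (u i) =
        3 * (D i * D i) + D i * (L.tail.map fun a => a.1 * a.2 i).sum := by
      intro i
      simp only [L, V, List.tail_cons, List.map_cons, List.map_nil, List.sum_cons, List.sum_nil]
      ring
    rw [Finset.sum_congr rfl fun i _ => h2 i, Finset.sum_add_distrib, ← Finset.mul_sum, h1, qD]
    norm_num
  have hDF : ∑ i, D i * F i = 3 * 1981808640 := by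
    have h1 : ∑ i, D i * V (D i) (A i) (X i) (a i) (b i) (s i) (w i) (u i) = 43786049417 * ∑ i, D i * F i := by
      rw [Finset.mul_sum]
      refine Finset.sum_congr rfl fun i _ => ?_
      rw [hF i]; ring
    rw [h1] at hDV
    omega
  -- off `E`
  have hoff : ∀ i ∉ E, F i = 0 := by
    intro i hi
    have h1 : 3 ∣ F i := by
      have h2 := hEu i hi
      have h3 := hF i
      unfold V at h3
      omega
    obtain ⟨f, hf⟩ := h1
    have h4 : F i * F i ≤ 3 := by
      rw [← hF3]
      exact Finset.single_le_sum (f := fun i => F i * F i) (fun j _ => mul_self_nonneg _) (Finset.mem_univ i)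
    have h5 : f * f = 0 := by
      rw [hf] at h4
      nlinarith [mul_self_nonneg f]
    have h6 : f = 0 := mul_self_eq_zero.1 h5
    rw [hf, h6, mul_zero]
  have hFE : ∀ i ∈ E, ∀ j ∈ E, F i = F j := by
    intro i hi j hj
    have h1 := (hconst i hi j hj).2
    rw [hF i, hF j] at h1
    omega
  intro i hi
  have hs1 : ∑ j ∈ E, F j * F j = 3 := by
    rw [← hF3]
    refine Finset.sum_subset (Finset.subset_univ _) fun j _ hj => ?_
    rw [hoff j hj, mul_zero]
  have hs2 : ∑ j ∈ E, D j * F j = 3 * 1981808640 := by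
    rw [← hDF]
    refine Finset.sum_subset (Finset.subset_univ _) fun j _ hj => ?_
    rw [hoff j hj, mul_zero]
  rw [Finset.sum_congr rfl (g := fun _ => F i * F i) (fun j hj => by rw [hFE j hj i hi]), Finset.sum_const, hE] at hs1
  rw [Finset.sum_congr rfl (g := fun _ => D i * F i) (fun j hj => by rw [hFE j hj i hi, (hconst j hj i hi).1]),
    Finset.sum_const, hE] at hs2
  have h1 : F i * F i = 1 := by
    rw [nsmul_eq_mul] at hs1
    push_cast at hs1
    linarith
  have h2 : D i * F i = 1981808640 := by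
    rw [nsmul_eq_mul] at hs2
    push_cast at hs2
    linarith
  rcases mul_self_eq_one_iff.1 h1 with h3 | h3
  · rw [h3, mul_one] at h2; exact h2
  · rw [h3] at h2
    have := hpos i
    linarith

end Cfsg.Agent.H894.J4Two
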