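import Cfsg.Agent.H653.Sieve.Prime
import Cfsg.Agent.Characters.GaloisBasic
import Cfsg.Agent.H894.J4TwoCore

/-!
# Rational columns (helper894)

* `exists_col_rat`: the column of a rational element of prime order;
* `exists_col_self`: the column of a self-centralizing Sylow subgroup of prime order, with its exceptional characters.
-/

set_option autoImplicit false

open Cfsg Subgroup
open scoped ComplexConjugate

namespace Cfsg.Agent.H894.J4Two

open Cfsg.Agent.Characters.Core
open Cfsg.Agent.H653.Sieve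

universe u

variable {G : Type u} [Group G] [Finite G]

omit [Finite G] in
theorem apply_eq_of_isConj {χ : G → ℂ} (hχ : IsIrrCharacter G χ) {x y : G} (h : IsConj x y) : χ x = χ y := by
  obtain ⟨g, rfl⟩ := isConj_iff.1 h
  exact (isIrr_isClassFunction hχ x g).symm

/-- the sum over a subgroup of prime order all of whose nontrivial elements are conjugate -/
theorem csum_zpowers {p : ℕ} {g : G} (ho : orderOf g = p)
    (h : ∀ z ∈ zpowers g, z ≠ 1 → IsConj z g) (χ : IrrCharacter G) :
    csum (zpowers g) (χ : G → ℂ) = ((p - 1 : ℕ) : ℂ) * (χ : G → ℂ) g := by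
  classical
  have := Fintype.ofFinite (zpowers g)
  rw [csum_eq_erase, Finset.sum_congr rfl (g := fun _ => (χ : G → ℂ) g), Finset.sum_const,
    Finset.card_erase_of_mem (Finset.mem_univ _), Finset.card_univ, ← Nat.card_eq_fintype_card, Nat.card_zpowers, ho,
    nsmul_eq_mul]
  intro x hx
  exact apply_eq_of_isConj χ.2 (h x x.2 fun e => (Finset.mem_erase.1 hx).1 (Subtype.ext e))

/-- the value at a rational element of prime order -/
theorem exists_int_val [Fintype (IrrCharacter G)] {p : ℕ} (hp : p.Prime) {g : G} (ho : orderOf g = p)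
    (h : ∀ z ∈ zpowers g, z ≠ 1 → IsConj z g) (χ : IrrCharacter G) : ∃ a : ℤ, (χ : G → ℂ) g = a := by
  have := Fintype.ofFinite (zpowers g)
  apply Cfsg.Agent.Characters.GaloisBasic.exists_int_of_rat (isIrr_isCharacter χ.2)
  obtain ⟨m, hm⟩ := SmallSimple.TheoremBCor.exists_sum_eq (isIrr_isCharacter χ.2) (zpowers g)
  have h1 := csum_zpowers ho h χ
  rw [csum_eq, hm, deg_cast] at h1
  have h2 : ((p - 1 : ℕ) : ℂ) ≠ 0 := by
    have := hp.two_le
    exact_mod_cast (by omega : p - 1 ≠ 0)
  refine ⟨(m * (Nat.card (zpowers g) : ℚ) - deg χ) / ((p - 1 : ℕ) : ℚ), ?_⟩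
  push_cast
  rw [eq_div_iff h2, h1]
  ring

theorem exists_col_rat [Fintype (IrrCharacter G)] {p : ℕ} (hp : p.Prime) {g : G} (ho : orderOf g = p)
    (h : ∀ z ∈ zpowers g, z ≠ 1 → IsConj z g) : ∃ A : IrrCharacter G → ℤ, IsCol (zpowers g) (p - 1) A ∧
      (∀ χ : IrrCharacter G, (χ : G → ℂ) g = A χ) ∧
      ∑ χ : IrrCharacter G, A χ * A χ = (Nat.card (centralizer ({g} : Set G)) : ℤ) := by
  classical
  have := Fintype.ofFinite G
  choose A hA using exists_int_val hp ho h
  refine ⟨A, fun χ => ?_, hA, ?_⟩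
  · rw [csum_zpowers ho h, hA]
  · have h1 := S0145.sum_irr_mul_conj g g
    rw [if_pos (IsConj.refl g)] at h1
    have h2 : ((∑ χ : IrrCharacter G, A χ * A χ : ℤ) : ℂ) = (Nat.card (centralizer ({g} : Set G)) : ℂ) := by
      rw [← h1]
      push_cast
      refine Finset.sum_congr rfl fun χ _ => ?_
      rw [hA χ]
      simp
    exact_mod_cast h2

/-- the column of a self-centralizing subgroup of prime order -/
theorem exists_col_self [Fintype (IrrCharacter G)] {p : ℕ} [hp : Fact p.Prime] (hp2 : p ≠ 2) {P : Subgroup G}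
    (hP : Nat.card P = p) (hpp : ¬ p * p ∣ Nat.card G) (hC : Nat.card (centralizer (P : Set G)) = p) {e t : ℕ}
    (hN : Nat.card (normalizer (P : Set G)) = p * e) (ht : e * t = p - 1) :
    ∃ (W : IrrCharacter G → ℤ) (X : Finset (IrrCharacter G)) (d : ℤ), IsCol P e W ∧ X.card = t ∧
      (∀ χ ∈ X, W χ = d) ∧ (∀ χ ∉ X, (t : ℤ) ∣ W χ) ∧
      (∀ χ ∈ X, ∀ ψ ∈ X, ∀ g : G, ¬ p ∣ orderOf g → (χ : G → ℂ) g = (ψ : G → ℂ) g) ∧
      ∑ χ : IrrCharacter G, W χ * W χ = (t * p : ℕ) := by
  classical
  have hpg : IsPGroup p P := IsPGroup.of_card (n := 1) (by rw [hP, pow_one])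
  obtain ⟨S, hPS⟩ := hpg.exists_le_sylow
  have h1 : p ∣ Nat.card G := by rw [← hP]; exact card_subgroup_dvd_card P
  have h2 : ¬ p ^ 2 ∣ Nat.card G := by rw [pow_two]; exact hpp
  have hS : Nat.card S = p := SmallSimple.PrimeLocal.card_of_not_sq_dvd h1 h2 S
  have hPS' : P = (S : Subgroup G) :=
    Subgroup.eq_of_le_of_card_ge hPS (by rw [hP]; exact le_of_eq hS)
  subst hPS'
  have hC' : centralizer (S : Set G) = (S : Subgroup G) := by
    symm
    apply Subgroup.eq_of_le_of_card_ge (SmallSimple.ThetaSetup.le_centralizer hS)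
    have h3 : Nat.card (centralizer (S : Set G)) = p := hC
    rw [h3]
    exact le_of_eq hS.symm
  have he : (centralizer (S : Set G)).relIndex (normalizer (S : Set G)) = e := by
    have hle : centralizer ((S : Subgroup G) : Set G) ≤ normalizer ((S : Subgroup G) : Set G) :=
      centralizer_le_normalizer _
    have h3 := Subgroup.index_mul_card ((centralizer ((S : Subgroup G) : Set G)).subgroupOf
      (normalizer ((S : Subgroup G) : Set G)))
    rw [Nat.card_congr (Subgroup.subgroupOfEquivOfLe hle).toEquiv, hC, hN] at h3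
    apply Nat.eq_of_mul_eq_mul_right hp.out.pos
    show ((centralizer ((S : Subgroup G) : Set G)).subgroupOf (normalizer ((S : Subgroup G) : Set G))).index * p = e * p
    rw [h3, mul_comm]
  have hSf := Fintype.ofFinite (S : Subgroup G)
  obtain ⟨NE, X, ε, d, T, hdis, hNE, hX, hε, hd, -, hv, hvX, -, hreg, hz⟩ :=
    SmallSimple.TheoremBCor.theoremB_selfCent p hp2 S hS hC' e t he ht
  have he0 : e ≠ 0 := by
    rintro rfl
    have := hp.out.two_le
    omega
  have he' : (e : ℂ) ≠ 0 := by exact_mod_cast he0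
  have hcard : ((Finset.univ : Finset (S : Subgroup G)).erase 1).card = p - 1 := by
    rw [Finset.card_erase_of_mem (Finset.mem_univ _), Finset.card_univ, ← Nat.card_eq_fintype_card]
    exact congrArg (· - 1) hS
  have hne1 : ∀ x ∈ (Finset.univ : Finset (S : Subgroup G)).erase 1, (x : G) ≠ 1 := fun x hx e =>
    (Finset.mem_erase.1 hx).1 (Subtype.ext e)
  let W : IrrCharacter G → ℤ := fun χ => if χ ∈ X then -d else if χ ∈ NE then ε χ * t else 0
  have hcol : IsCol (S : Subgroup G) e W := by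
    intro χ
    by_cases hχ : χ ∈ X
    · obtain ⟨hSc, hS1, hSv⟩ := hvX χ hχ
      have h4 := SmallSimple.TheoremBCor.sum_exc_off (f := fun x : (S : Subgroup G) => (χ : G → ℂ) x) (d := (d : ℂ))
        hS1 hSv
      simp only [W, if_pos hχ]
      rw [csum_eq, h4, hSc, Subgroup.coe_one]
      push_cast; ring
    · by_cases hχ' : χ ∈ NE
      · simp only [W, if_neg hχ, if_pos hχ']
        rw [csum_eq_erase, Finset.sum_congr rfl (fun (x : (S : Subgroup G)) hx => hv χ hχ' (x : G) x.2 (hne1 x hx)),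
          Finset.sum_const, hcard, ← ht, nsmul_eq_mul]
        push_cast; ring
      · simp only [W, if_neg hχ, if_neg hχ']
        rw [csum_eq_erase, Finset.sum_eq_zero (fun (x : (S : Subgroup G)) hx => (hz χ hχ' hχ).1 (x : G) x.2 (hne1 x hx))]
        simp
  refine ⟨W, X, -d, hcol, hX, fun χ hχ => if_pos hχ, fun χ hχ => ?_, fun χ hχ ψ hψ g hg => ?_, ?_⟩
  · simp only [W, if_neg hχ]
    split_ifs
    · exact dvd_mul_left _ _
    · exact dvd_zero _
  · have h3 := (hreg χ hχ g hg).symm.trans (hreg ψ hψ g hg)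
    have hd0 : (d : ℂ) ≠ 0 := by rcases hd with rfl | rfl <;> norm_num
    exact mul_left_cancel₀ hd0 h3
  · have h3 := hcol.sq (k := 1) hS (by rw [mul_one]; exact hN) ht
    rw [h3, mul_one]

end Cfsg.Agent.H894.J4Two
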